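import Cfsg.Agent.Co1Invol.Quotient
import Cfsg.Agent.Leech.Generation

/-!
The centralisers of two commuting conjugate involutions generate `Co₁`.
-/

set_option autoImplicit false

namespace Cfsg.Agent.LargeOut

open Cfsg Cfsg.Agent.Golay Cfsg.Agent.Leech Cfsg.Agent.Co2Invol
open scoped Pointwise

/-- The sign change on the far octad. -/
noncomputable def farInv : Co0 := monomial (one_mem M24) (bitSet_enc_supports 208)

theorem farInv_smul (x : leechLattice) : (farInv • x).1 = flipOn Co1Invol.farOctad x.1 :=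
  monomial_smul _ _ x

theorem exists_conj_farInv : ∃ (m : Co0) (q : ↥rho.ker), m * invT = negCo0 * farInv * m ∧
    (q.1 : Co0) = farInv ∧ farInv ≠ invT := by
  have ho : Co1Invol.farOctad ∈ octads := by
    refine mem_octads_iff.mpr ⟨bitSet_enc_mem _, ?_⟩
    rw [Co1Invol.farOctad, card_bitSet]; decide +kernel
  obtain ⟨σ, hσ, hσo⟩ := OctadKernel.exists_to_oct0 ho
  refine ⟨monomial hσ Spor.empty_mem_supports_golayCode,
    kerFun (1, ⟨Co1Invol.farOctad, bitSet_enc_supports 208, code_mem 208 (by decide)⟩), ?_, rfl, ?_⟩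
  · refine Subtype.ext (Equiv.ext fun x => Subtype.ext ?_)
    show (monomial hσ Spor.empty_mem_supports_golayCode • invT • x).1 =
      (negCo0 • farInv • monomial hσ Spor.empty_mem_supports_golayCode • x).1
    rw [negCo0_smul, AddSubgroup.coe_neg, monomial_smul, invT_smul, farInv_smul, monomial_smul]
    funext p
    have hp := apply_mem_octad_iff hσo p
    simp only [flipOn, Function.comp_apply, mem_signSet, hp, Finset.notMem_empty, if_false,
      Pi.neg_apply]
    split_ifs <;> simp
  · intro h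
    have h3 : Co1Invol.farOctad = signSet :=
      (monomial_injective (one_mem M24) (one_mem M24) (bitSet_enc_supports 208) signSet_mem h).2
    exact absurd (congrArg Finset.card h3) (by decide +kernel)

/-- The permutations inducing an element of a subgroup. -/
def permsIn (H : Subgroup Co0) : Subgroup (Equiv.Perm GolayPt) where
  carrier := {σ | ∃ g ∈ H, ∀ x : leechLattice, (g • x).1 = x.1 ∘ σ}
  one_mem' := ⟨1, one_mem _, fun x => by rw [one_smul]; rfl⟩
  mul_mem' := by
    rintro a b ⟨g, hg, ea⟩ ⟨h, hh, eb⟩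
    exact ⟨h * g, mul_mem hh hg, fun x => by rw [mul_smul, eb, ea]; rfl⟩
  inv_mem' := by
    rintro a ⟨g, hg, ea⟩
    refine ⟨g⁻¹, inv_mem hg, fun x => ?_⟩
    have h := ea (g⁻¹ • x)
    rw [smul_inv_smul] at h
    rw [h]
    funext p
    simp

/-- The certificate: products of elements fixing one of the two octads. -/
def genCert : List (List (List ℕ)) :=
  [[[1, 55, 55, 104, 82, 134, 117, 175, 146], [0, 0, 1, 65, 6, 175, 55, 55, 175, 82, 190, 134, 104, 175, 175, 146], [40, 0, 1, 48, 65, 65, 162, 117, 175, 175, 146]], [[0, 0, 1, 65, 6, 175, 55, 55, 175, 82, 190, 134, 104, 175, 175, 146], [162, 6, 1, 65, 48, 6, 55, 90, 117, 175, 190, 146], [0, 0, 1, 6, 6, 104, 65, 55, 117, 90, 82, 175, 175, 104, 175, 175, 146], [162, 6, 1, 65, 48, 6, 55, 90, 117, 175, 190, 146]], [[1, 55, 55, 104, 82, 134, 117, 175, 146], [0, 0, 1, 65, 6, 175, 55, 55, 175, 82, 190, 134, 104, 175, 175, 146], [162, 6, 1, 65, 48, 6, 55, 90, 117, 175, 190, 146]]]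

theorem genCert_checks : ∀ i : Fin 3,
    (∀ w ∈ genCert.getD i.val [], (∀ j ∈ w, j < 191) ∧
      ((∀ p, wordFun w p ∈ oct0 ↔ p ∈ oct0) ∨
        ∀ p, wordFun w p ∈ Co1Invol.farOctad ↔ p ∈ Co1Invol.farOctad)) ∧
    ∀ p, (∃ q ∈ oct0, node i.val p = wordFun (genCert.getD i.val []).flatten q) ↔ p ∈ oct0 := by
  decide +kernel

theorem wordFun_append (u v : List ℕ) (p : GolayPt) :
    wordFun (u ++ v) p = wordFun u (wordFun v p) := by
  induction u with
  | nil => rfl
  | cons i u ih => simp only [List.cons_append, wordFun, ih]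

theorem exists_word_perm : ∀ w : List ℕ, (∀ j ∈ w, j < 191) →
    ∃ σ ∈ M24, ⇑σ = wordFun w
  | [], _ => ⟨1, one_mem _, rfl⟩
  | i :: w, h => by
    obtain ⟨a, ha, ea⟩ := exists_word_perm w fun j hj => h j (List.mem_cons_of_mem _ hj)
    obtain ⟨b, hb, eb⟩ := node_mem_gen3 i (h i List.mem_cons_self)
    exact ⟨b * a, mul_mem (gen3_le hb) ha, funext fun p => by rw [wordFun, ← ea, ← eb]; rfl⟩

theorem eq_top_of_two_centralisers {H : Subgroup Co0}
    (h1 : ∀ g : Co0, g * invT = invT * g → g ∈ H)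
    (h2 : ∀ g : Co0, g * farInv = farInv * g → g ∈ H) : H = ⊤ := by
  have hstab : ∀ σ ∈ M24, ((∀ p, σ p ∈ oct0 ↔ p ∈ oct0) ∨
      ∀ p, σ p ∈ Co1Invol.farOctad ↔ p ∈ Co1Invol.farOctad) → σ ∈ permsIn H := by
    intro σ hσ hs
    refine ⟨monomial hσ Spor.empty_mem_supports_golayCode, ?_,
      fun x => (monomial_smul hσ _ x).trans (funext fun p => by simp [flipOn])⟩
    rcases hs with hs | hs
    · refine h1 _ (Subtype.ext (Equiv.ext fun x => Subtype.ext ?_))
      show (monomial hσ Spor.empty_mem_supports_golayCode • invT • x).1 =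
        (invT • monomial hσ Spor.empty_mem_supports_golayCode • x).1
      rw [monomial_smul, invT_smul, invT_smul, monomial_smul]
      funext p
      simp only [flipOn, Function.comp_apply, mem_signSet, hs p, Finset.notMem_empty, if_false]
    · refine h2 _ (Subtype.ext (Equiv.ext fun x => Subtype.ext ?_))
      show (monomial hσ Spor.empty_mem_supports_golayCode • farInv • x).1 =
        (farInv • monomial hσ Spor.empty_mem_supports_golayCode • x).1
      rw [monomial_smul, farInv_smul, farInv_smul, monomial_smul]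
      funext p
      simp only [flipOn, Function.comp_apply, hs p, Finset.notMem_empty, if_false]
  have hnode : ∀ i : Fin 3, ∀ g ∈ M24, ⇑g = node i.val → g ∈ permsIn H := by
    intro i g hg eg
    obtain ⟨hw, hset⟩ := genCert_checks i
    have hprod : ∀ L : List (List ℕ), (∀ w ∈ L, w ∈ genCert.getD i.val []) →
        ∃ σ ∈ permsIn H ⊓ M24, ⇑σ = wordFun L.flatten := by
      intro L
      induction L with
      | nil => exact fun _ => ⟨1, one_mem _, rfl⟩
      | cons w L ih =>
        intro hL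
        obtain ⟨b, hb, eb⟩ := ih fun x hx => hL x (List.mem_cons_of_mem _ hx)
        obtain ⟨hlt, hor⟩ := hw w (hL w List.mem_cons_self)
        obtain ⟨a, ha, ea⟩ := exists_word_perm w hlt
        refine ⟨a * b, mul_mem ⟨hstab a ha (by rw [ea]; exact hor), ha⟩ hb, funext fun p => ?_⟩
        rw [List.flatten_cons, wordFun_append, ← ea, ← eb]
        rfl
    obtain ⟨σ, hσ, eσ⟩ := hprod _ fun w hw => hw
    rw [Subgroup.mem_inf] at hσ
    have hs : ∀ p, (σ⁻¹ * g) p ∈ oct0 ↔ p ∈ oct0 := by
      intro p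
      rw [← hset p, eg.symm, ← eσ]
      refine ⟨fun h => ⟨_, h, by simp⟩, ?_⟩
      rintro ⟨q, hq, e⟩
      rw [Equiv.Perm.mul_apply, e, ← Equiv.Perm.mul_apply, inv_mul_cancel, Equiv.Perm.one_apply]
      exact hq
    simpa using mul_mem hσ.1 (hstab _ (mul_mem (inv_mem hσ.2) hg) (Or.inl hs))
  have hM : M24 ≤ permsIn H := by
    rw [← gen3_eq_M24, gen3, Subgroup.closure_le]
    rintro g (rfl | rfl | rfl)
    · exact hnode 0 _ shiftPerm_mem (funext fun p => (node_zero p).symm)
    · exact hnode 1 _ projInv_mem (funext fun p => (node_one p).symm)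
    · exact hnode 2 _ cubeTwist_mem (funext cubeTwist_apply)
  refine eq_top_of_monomial_xi (fun σ hσ c hc => ?_) ?_
  · obtain ⟨g, hg, eg⟩ := hM hσ
    have hflip : monomial (one_mem M24) hc ∈ H := by
      refine h1 _ (Subtype.ext (Equiv.ext fun x => Subtype.ext ?_))
      show (monomial (one_mem M24) hc • invT • x).1 = (invT • monomial (one_mem M24) hc • x).1
      rw [monomial_smul, invT_smul, invT_smul, monomial_smul]
      funext p
      simp only [flipOn, Function.comp_apply, Equiv.Perm.coe_one, id_eq]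
      split_ifs <;> rfl
    have e : monomial hσ hc = monomial (one_mem M24) hc * g := by
      refine Subtype.ext (Equiv.ext fun x => Subtype.ext ?_)
      show (monomial hσ hc • x).1 = (monomial (one_mem M24) hc • g • x).1
      rw [monomial_smul, monomial_smul, eg]
      rfl
    rw [e]
    exact mul_mem hflip hg
  · refine h1 _ (co0_eq_of_genVecs fun x hx => ?_)
    have hc := (Co1Invol.moveWord_checks 3).1
    rw [List.all_eq_true] at hc
    have hxi : ∀ y : leechLattice, (toCo0 isAut_xi • y).1 = word3 (Co1Invol.moveWord 3) y.1 :=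
      fun y => rfl
    rw [mul_smul, mul_smul, hxi, invT_smul, invT_smul, hxi, signSet_mask, flipOn_bitSet,
      flipOn_bitSet]
    exact (eq_of_eqB (hc _ hx)).symm

theorem exists_generating : ∃ m : Spor.Co1,
    (∃ h : m * Co1Invol.zBar * m⁻¹ ∈ Subgroup.centralizer ({Co1Invol.zBar} : Set Spor.Co1),
      (⟨_, h⟩ : ↥(Subgroup.centralizer ({Co1Invol.zBar} : Set Spor.Co1))) ∈ Co1Invol.kerBar) ∧
    m * Co1Invol.zBar * m⁻¹ ≠ Co1Invol.zBar ∧
    Subgroup.centralizer ({Co1Invol.zBar} : Set Spor.Co1) ⊔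
      Subgroup.centralizer ({m * Co1Invol.zBar * m⁻¹} : Set Spor.Co1) = ⊤ := by
  obtain ⟨m, q, hm, hq, hne⟩ := exists_conj_farInv
  have e : (QuotientGroup.mk m : Spor.Co1) * Co1Invol.zBar * (QuotientGroup.mk m)⁻¹ =
      QuotientGroup.mk farInv := by
    rw [mul_inv_eq_iff_eq_mul, Co1Invol.zBar, ← QuotientGroup.mk_mul, ← QuotientGroup.mk_mul, hm,
      QuotientGroup.eq]
    rw [show (negCo0 * farInv * m)⁻¹ * (farInv * m) =
      (farInv * m)⁻¹ * negCo0⁻¹ * (farInv * m) by group]
    exact (inferInstance : (Subgroup.center Co0).Normal).conj_mem' _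
      (inv_mem ((Leech.center_eq _).mpr (Or.inr rfl))) _
  have eq' : (QuotientGroup.mk m : Spor.Co1) * Co1Invol.zBar * (QuotientGroup.mk m)⁻¹ =
      (Co1Invol.qHom q).1 := by
    rw [e, ← hq]; rfl
  refine ⟨QuotientGroup.mk m, ⟨eq' ▸ (Co1Invol.qHom q).2, ?_⟩, ?_, ?_⟩
  · rw [← Co1Invol.qHom_range]
    exact ⟨q, Subtype.ext eq'.symm⟩
  · intro h
    have h' : Co1Invol.qHom q = Co1Invol.qHom invTKer := Subtype.ext (eq'.symm.trans h)
    exact hne (hq.symm.trans (congrArg (fun a : ↥rho.ker => (a.1 : Co0)) (Co1Invol.qHom_injective h')))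
  · rw [e]
    apply Subgroup.comap_injective (QuotientGroup.mk'_surjective (Subgroup.center Co0))
    rw [Subgroup.comap_top]
    refine eq_top_of_two_centralisers (fun g hg => ?_) fun g hg => ?_
    · refine Subgroup.mem_comap.mpr (Subgroup.mem_sup_left ?_)
      exact Subgroup.mem_centralizer_singleton_iff.mpr (congrArg (QuotientGroup.mk' (Subgroup.center Co0)) hg)
    · refine Subgroup.mem_comap.mpr (Subgroup.mem_sup_right ?_)
      exact Subgroup.mem_centralizer_singleton_iff.mpr (congrArg (QuotientGroup.mk' (Subgroup.center Co0)) hg)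

end Cfsg.Agent.LargeOut
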