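import Cfsg.Agent.PGroup.Extraspecial
import Mathlib.GroupTheory.Abelianization.Defs

/-!
A group with a self-centralising normal extraspecial 2-subgroup: rigidity of automorphisms.
-/

set_option autoImplicit false

namespace Cfsg.Agent.LargeOut

open Subgroup
open scoped commutatorElement Pointwise

variable {C : Type*} [Group C] {Q : Subgroup C}

/-- An element of the group fixing `Q` up to its centre lies in `Q`. -/
theorem mem_of_trivial_mod_center [Finite C] [Q.Normal] (hE : Cfsg.IsExtraspecial 2 Q)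
    (hself : centralizer (Q : Set C) ≤ Q) {d : C}
    (h : ∀ q : Q, q⁻¹ * MulAut.conjNormal d q ∈ center Q) : d ∈ Q := by
  have : Fact (Nat.Prime 2) := ⟨Nat.prime_two⟩
  obtain ⟨g, hg⟩ := PGroup.extraspecial_exists_conj hE (MulAut.conjNormal d) h
  have hmem : g.1⁻¹ * d ∈ centralizer (Q : Set C) := by
    rw [mem_centralizer_iff]
    intro q hq
    have h' := congrArg Subtype.val (DFunLike.congr_fun hg (⟨q, hq⟩ : Q))
    rw [MulAut.conjNormal_apply] at h'
    have h2 : d * q * d⁻¹ = g.1 * q * g.1⁻¹ := h'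
    calc q * (g.1⁻¹ * d) = g.1⁻¹ * (g.1 * q * g.1⁻¹) * d := by group
      _ = g.1⁻¹ * (d * q * d⁻¹) * d := by rw [h2]
      _ = _ := by group
  simpa using mul_mem g.2 (hself hmem)

/-- An automorphism fixing `Q` pointwise is the identity. -/
theorem eq_self_of_fix [Q.Normal] (hself : centralizer (Q : Set C) ≤ Q)
    (hQZ : ∀ c ∈ Q, (∀ q ∈ Q, q * c = c * q) → c ∈ center C)
    (hperf : ∀ x : C, x ∈ Q ⊔ commutator C)
    (γ : MulAut C) (hγ : ∀ q ∈ Q, γ q = q) (x : C) : γ x = x := by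
  have hcen : ∀ y, y⁻¹ * γ y ∈ center C := by
    intro y
    have hc : ∀ q ∈ Q, q * (y⁻¹ * γ y) = y⁻¹ * γ y * q := by
      intro q hq
      have h2 : γ (y * q * y⁻¹) = y * q * y⁻¹ := hγ _ ((inferInstance : Q.Normal).conj_mem q hq y)
      rw [map_mul, map_mul, map_inv, hγ q hq] at h2
      calc q * (y⁻¹ * γ y) = y⁻¹ * (y * q * y⁻¹) * γ y := by group
        _ = y⁻¹ * (γ y * q * (γ y)⁻¹) * γ y := by rw [h2]
        _ = y⁻¹ * γ y * q := by group
    exact hQZ _ (hself (mem_centralizer_iff.mpr hc)) hc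
  let φ : C →* center C :=
    { toFun := fun y => ⟨y⁻¹ * γ y, hcen y⟩
      map_one' := Subtype.ext (by simp)
      map_mul' := fun a b => Subtype.ext (by
        show (a * b)⁻¹ * γ (a * b) = a⁻¹ * γ a * (b⁻¹ * γ b)
        calc (a * b)⁻¹ * γ (a * b) = b⁻¹ * (a⁻¹ * γ a) * γ b := by rw [map_mul]; group
          _ = a⁻¹ * γ a * b⁻¹ * γ b := by rw [mem_center_iff.mp (hcen a) b⁻¹]
          _ = _ := by group) }
  have hker : Q ⊔ commutator C ≤ φ.ker := by
    refine sup_le (fun q hq => Subtype.ext ?_) ?_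
    · show q⁻¹ * γ q = 1
      rw [hγ q hq, inv_mul_cancel]
    · rw [commutator_def, Subgroup.commutator_le]
      intro a _ b _
      have hab : φ a * φ b = φ b * φ a :=
        Subtype.ext ((mem_center_iff.mp (φ b).2 (φ a).1))
      rw [MonoidHom.mem_ker, map_commutatorElement, commutatorElement_def, hab]
      group
  have h1 : x⁻¹ * γ x = 1 := congrArg Subtype.val (MonoidHom.mem_ker.mp (hker (hperf x)))
  exact (inv_mul_eq_one.mp h1).symm

/-- Automorphisms are inner, given rigidity on `Q` modulo its centre. -/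
theorem inner_of_rigid [Finite C] [Q.Normal] (hE : Cfsg.IsExtraspecial 2 Q)
    (hself : centralizer (Q : Set C) ≤ Q)
    (hQZ : ∀ c ∈ Q, (∀ q ∈ Q, q * c = c * q) → c ∈ center C)
    (hperf : ∀ x : C, x ∈ Q ⊔ commutator C)
    (β : MulAut C) (hpres : ∀ q ∈ Q, β q ∈ Q) {c : C}
    (hc : ∀ q : Q, ∀ h : (c * q.1 * c⁻¹)⁻¹ * β q.1 ∈ Q,
      (⟨(c * q.1 * c⁻¹)⁻¹ * β q.1, h⟩ : Q) ∈ center Q) :
    ∃ d, ∀ x, β x = d * x * d⁻¹ := by
  have : Fact (Nat.Prime 2) := ⟨Nat.prime_two⟩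
  obtain ⟨β', hβ'⟩ : ∃ β' : MulAut C, ∀ x, β' x = c⁻¹ * β x * c :=
    ⟨(MulAut.conj c)⁻¹ * β, fun _ => rfl⟩
  have hmem : ∀ q : Q, β' q.1 ∈ Q := fun q => by
    rw [hβ']
    exact (inferInstance : Q.Normal).conj_mem' _ (hpres q.1 q.2) c
  let f : Q →* Q :=
    { toFun := fun q => ⟨β' q.1, hmem q⟩
      map_one' := Subtype.ext (map_one β')
      map_mul' := fun a b => Subtype.ext (map_mul β' a.1 b.1) }
  have hf : Function.Bijective f := Finite.injective_iff_bijective.mp fun a b h =>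
    Subtype.ext (β'.injective (congrArg Subtype.val h))
  have hα : ∀ q : Q, q⁻¹ * MulEquiv.ofBijective f hf q ∈ center Q := by
    intro q
    have hm : (c * q.1 * c⁻¹)⁻¹ * β q.1 ∈ Q :=
      mul_mem (inv_mem ((inferInstance : Q.Normal).conj_mem _ q.2 c)) (hpres q.1 q.2)
    have hn : c⁻¹ * ((c * q.1 * c⁻¹)⁻¹ * β q.1) * c ∈ Q :=
      (inferInstance : Q.Normal).conj_mem' _ hm c
    have e : q⁻¹ * MulEquiv.ofBijective f hf q = (⟨_, hn⟩ : Q) := Subtype.ext (by
      show q.1⁻¹ * β' q.1 = _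
      rw [hβ']; group)
    rw [e, mem_center_iff]
    intro a
    have hc' := mem_center_iff.mp (hc q hm) ⟨c * a.1 * c⁻¹,
      (inferInstance : Q.Normal).conj_mem _ a.2 c⟩
    have h' : c * a.1 * c⁻¹ * ((c * q.1 * c⁻¹)⁻¹ * β q.1) =
        (c * q.1 * c⁻¹)⁻¹ * β q.1 * (c * a.1 * c⁻¹) := congrArg Subtype.val hc'
    apply Subtype.ext
    show a.1 * (c⁻¹ * ((c * q.1 * c⁻¹)⁻¹ * β q.1) * c) = _ * a.1
    calc a.1 * (c⁻¹ * ((c * q.1 * c⁻¹)⁻¹ * β q.1) * c)
        = c⁻¹ * (c * a.1 * c⁻¹ * ((c * q.1 * c⁻¹)⁻¹ * β q.1)) * c := by group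
      _ = c⁻¹ * ((c * q.1 * c⁻¹)⁻¹ * β q.1 * (c * a.1 * c⁻¹)) * c := by rw [h']
      _ = _ := by group
  obtain ⟨g, hg⟩ := PGroup.extraspecial_exists_conj hE (MulEquiv.ofBijective f hf) hα
  obtain ⟨γ, hγ⟩ : ∃ γ : MulAut C, ∀ x, γ x = g.1⁻¹ * β' x * g.1 :=
    ⟨(MulAut.conj g.1)⁻¹ * β', fun _ => rfl⟩
  have hγQ : ∀ q ∈ Q, γ q = q := by
    intro q hq
    have h := congrArg Subtype.val (DFunLike.congr_fun hg (⟨q, hq⟩ : Q))
    have h2 : β' q = g.1 * q * g.1⁻¹ := h
    rw [hγ, h2]; group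
  refine ⟨c * g.1, fun x => ?_⟩
  have h1 := eq_self_of_fix hself hQZ hperf γ hγQ x
  calc β x = c * g.1 * γ x * g.1⁻¹ * c⁻¹ := by rw [hγ, hβ']; group
    _ = _ := by rw [h1]; group

theorem sq_eq_one_of_mem_center [Finite C] (hE : Cfsg.IsExtraspecial 2 Q) {u : Q}
    (hu : u ∈ center Q) : u * u = 1 := by
  have : Fact (Nat.Prime 2) := ⟨Nat.prime_two⟩
  rw [← pow_two]
  exact PGroup.special_center_pow hE.1 hu

/-- An element centralising the centraliser in `Q` of an involution `t` of `Q` lies in `⟨t⟩Z(Q)`. -/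
theorem mem_of_fix_centralizer [Finite C] [Q.Normal] (hE : Cfsg.IsExtraspecial 2 Q)
    (hself : centralizer (Q : Set C) ≤ Q) {t : Q} (ht : t * t = 1) (htz : t ∉ center Q)
    {d : C} (hd : ∀ q : Q, q * t = t * q → d * q.1 * d⁻¹ = q.1) :
    ∃ u : Q, u ∈ center Q ∧ ∃ k : ℤ, d = u.1 * t.1 ^ k := by
  have : Fact (Nat.Prime 2) := ⟨Nat.prime_two⟩
  let H : Subgroup Q := center Q ⊔ zpowers t
  have hH : ∀ a, a ∈ centralizer (H : Set Q) → a * t = t * a := fun a ha =>
    (mem_centralizer_iff.mp ha t ((le_sup_right : zpowers t ≤ H) (mem_zpowers t))).symm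
  have hmemH : ∀ r : Q, (∀ a : Q, a * t = t * a → a * r = r * a) → r ∈ H := by
    intro r hr
    have hle : center Q ≤ H := le_sup_left
    have e := PGroup.extraspecial_centralizer_centralizer (H := H) hE hle
    exact (le_of_eq e) (mem_centralizer_iff.mpr fun a ha => hr a (hH a ha))
  have hsplit : ∀ r ∈ H, ∃ u ∈ center Q, ∃ k : ℤ, r = u * t ^ k := by
    intro r hr
    have hr' : r ∈ ((center Q : Set Q) * (zpowers t : Set Q)) := by
      rw [← Subgroup.normal_mul]; exact hr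
    obtain ⟨u, hu, w, hw, e⟩ := hr'
    obtain ⟨k, rfl⟩ := mem_zpowers_iff.mp hw
    exact ⟨u, hu, k, e.symm⟩
  have htriv : ∀ q : Q, q⁻¹ * MulAut.conjNormal d q ∈ center Q := by
    intro q
    obtain ⟨q', hq'⟩ : ∃ q' : Q, q' = MulAut.conjNormal d q := ⟨_, rfl⟩
    have hqv : q'.1 = d * q.1 * d⁻¹ := by rw [hq', MulAut.conjNormal_apply]
    rw [← hq']
    by_cases hq : q * t = t * q
    · rw [show q' = q from Subtype.ext (hqv.trans (hd q hq)), inv_mul_cancel]
      exact one_mem _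
    have hr : q⁻¹ * q' ∈ H := by
      refine hmemH _ fun a ha => ?_
      have hca : ⁅q, a⁆ ∈ center Q := PGroup.special_commutatorElement_mem hE.1 q a
      have hn : q * a * q⁻¹ * t = t * (q * a * q⁻¹) := by
        have h1 := mem_center_iff.mp hca t
        calc q * a * q⁻¹ * t = ⁅q, a⁆ * (a * t) := by rw [commutatorElement_def]; group
          _ = ⁅q, a⁆ * (t * a) := by rw [ha]
          _ = t * ⁅q, a⁆ * a := by rw [← mul_assoc, h1]
          _ = _ := by rw [commutatorElement_def]; group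
      have e1 : q' * a * q'⁻¹ = q * a * q⁻¹ := by
        apply Subtype.ext
        show q'.1 * a.1 * q'.1⁻¹ = q.1 * a.1 * q.1⁻¹
        have e2 : d * (q.1 * a.1 * q.1⁻¹) * d⁻¹ = q.1 * a.1 * q.1⁻¹ := hd _ hn
        rw [hqv]
        calc d * q.1 * d⁻¹ * a.1 * (d * q.1 * d⁻¹)⁻¹
            = d * q.1 * d⁻¹ * (d * a.1 * d⁻¹) * (d * q.1 * d⁻¹)⁻¹ := by rw [hd a ha]
          _ = d * (q.1 * a.1 * q.1⁻¹) * d⁻¹ := by group
          _ = _ := e2
      calc a * (q⁻¹ * q') = q⁻¹ * (q * a * q⁻¹) * q' := by group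
        _ = q⁻¹ * (q' * a * q'⁻¹) * q' := by rw [e1]
        _ = q⁻¹ * q' * a := by group
    obtain ⟨u, hu, k, e⟩ := hsplit _ hr
    rcases Int.even_or_odd k with ⟨j, rfl⟩ | ⟨j, rfl⟩
    · rw [e, ← two_mul, zpow_mul, show t ^ (2 : ℤ) = 1 by rw [zpow_two, ht], one_zpow, mul_one]
      exact hu
    exfalso
    rw [zpow_add, zpow_mul, show t ^ (2 : ℤ) = 1 by rw [zpow_two, ht], one_zpow, one_mul,
      zpow_one] at e
    have hq2 : q' * q' = q * q := by
      apply Subtype.ext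
      show q'.1 * q'.1 = (q * q : Q).1
      have hmem : q * q * t = t * (q * q) := by
        have hc2 := PGroup.special_pow_mem_center hE.1 q
        rw [pow_two] at hc2
        exact (mem_center_iff.mp hc2 t).symm
      rw [hqv]
      calc d * q.1 * d⁻¹ * (d * q.1 * d⁻¹) = d * (q * q : Q).1 * d⁻¹ := by
            simp only [Subgroup.coe_mul]; group
        _ = _ := hd _ hmem
    have hq'e : q' = q * (u * t) := by rw [← e, mul_inv_cancel_left]
    have hu2 := sq_eq_one_of_mem_center hE hu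
    have hcu := mem_center_iff.mp hu
    have e3 : q * t * (q * t) = q * q := by
      rw [← hq2, hq'e]
      calc q * t * (q * t) = u * u * (q * t * (q * t)) := by rw [hu2, one_mul]
        _ = u * (u * (q * t)) * (q * t) := by group
        _ = u * (q * t * u) * (q * t) := by rw [hcu (q * t)]
        _ = u * (q * t) * (u * (q * t)) := by group
        _ = q * (u * t) * (q * (u * t)) := by
          rw [← mul_assoc u q t, ← hcu q, mul_assoc q u t]
    apply hq
    have e4 : t * (q * t) = q := mul_left_cancel (a := q) (by rw [← mul_assoc]; exact e3)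
    calc q * t = t⁻¹ * (t * (q * t)) := by group
      _ = t * q := by rw [e4, inv_eq_of_mul_eq_one_right ht]
  have hdQ : d ∈ Q := mem_of_trivial_mod_center hE hself htriv
  obtain ⟨u, hu, k, e⟩ := hsplit ⟨d, hdQ⟩ (hmemH _ fun a ha =>
    Subtype.ext (mul_inv_eq_iff_eq_mul.mp (hd a ha)).symm)
  refine ⟨u, hu, k, ?_⟩
  have := congrArg Subtype.val e
  simpa using this

end Cfsg.Agent.LargeOut
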