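import Cfsg.Prelude.Def_KGroupFacts
import Cfsg.Agent.PGroup.Extraspecial
import Mathlib.GroupTheory.Sylow
import Cfsg.Agent.LargeOut.Rigid

/-!
Every automorphism of a group is inner when some involution has a rigid centraliser with a
self-centralising extraspecial normal 2-subgroup containing another conjugate of the involution, and
the two centralisers generate.
-/

set_option autoImplicit false

namespace Cfsg.Agent.LargeOut

open Subgroup
open scoped commutatorElement

variable {G : Type*} [Group G]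

/-- Rigidity data of an involution centraliser. -/
structure Data (z : G) (Q : Subgroup (centralizer ({z} : Set G))) : Prop where
  normal : Q.Normal
  extra : Cfsg.IsExtraspecial 2 Q
  self_cent : centralizer (Q : Set (centralizer ({z} : Set G))) ≤ Q
  mem_z : (⟨z, mem_centralizer_singleton_iff.mpr rfl⟩ : centralizer ({z} : Set G)) ∈ Q
  ne_one : z ≠ 1
  preserved : ∀ (β : MulAut (centralizer ({z} : Set G))), ∀ q ∈ Q, β q ∈ Q
  perfect : ∀ x : centralizer ({z} : Set G),
    x ∈ Q ⊔ commutator (centralizer ({z} : Set G))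
  rigid : ∀ β : MulAut (centralizer ({z} : Set G)), ∃ c : centralizer ({z} : Set G), ∀ q ∈ Q,
    ((c * q * c⁻¹)⁻¹ * β q : centralizer ({z} : Set G)).1 = 1 ∨
      ((c * q * c⁻¹)⁻¹ * β q : centralizer ({z} : Set G)).1 = z

variable [Finite G] {z : G} {Q : Subgroup (centralizer ({z} : Set G))}

/-- The involution inside `Q`. -/
def zQ (D : Data z Q) : Q := ⟨⟨z, mem_centralizer_singleton_iff.mpr rfl⟩, D.mem_z⟩

theorem zQ_central (D : Data z Q) : zQ D ∈ center Q := mem_center_iff.mpr fun q =>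
  Subtype.ext (Subtype.ext (mem_centralizer_singleton_iff.mp q.1.2))

theorem zQ_ne_one (D : Data z Q) : zQ D ≠ 1 := fun h =>
  D.ne_one (congrArg (fun q : Q => (q.1 : G)) h)

theorem z_sq (D : Data z Q) : z * z = 1 := by
  have : Fact (Nat.Prime 2) := ⟨Nat.prime_two⟩
  have h := PGroup.special_center_pow D.extra.1 (zQ_central D)
  rw [pow_two] at h
  exact congrArg (fun q : Q => (q.1 : G)) h

theorem center_cases (D : Data z Q) {q : Q} (hq : q ∈ center Q) : q.1.1 = 1 ∨ q.1.1 = z := by
  have : Fact (Nat.Prime 2) := ⟨Nat.prime_two⟩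
  rw [PGroup.extraspecial_center_eq_zpowers D.extra (zQ_central D) (zQ_ne_one D)] at hq
  obtain ⟨k, hk⟩ := mem_zpowers_iff.mp hq
  have hsq : zQ D * zQ D = 1 := Subtype.ext (Subtype.ext (z_sq D))
  rcases Int.even_or_odd k with ⟨j, rfl⟩ | ⟨j, rfl⟩
  · left
    rw [← two_mul, zpow_mul, show zQ D ^ (2 : ℤ) = 1 by rw [zpow_two, hsq], one_zpow] at hk
    rw [← hk]; rfl
  · right
    rw [zpow_add, zpow_mul, show zQ D ^ (2 : ℤ) = 1 by rw [zpow_two, hsq], one_zpow, one_mul,
      zpow_one] at hk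
    rw [← hk]; rfl

/-- Elements of the centraliser of `Q` are `1` or `z`. -/
theorem centralizer_cases (D : Data z Q) {c : centralizer ({z} : Set G)}
    (h : ∀ q ∈ Q, q * c = c * q) : c.1 = 1 ∨ c.1 = z := by
  have hc : c ∈ centralizer (Q : Set (centralizer ({z} : Set G))) :=
    mem_centralizer_iff.mpr fun q hq => h q hq
  exact center_cases D (q := ⟨c, D.self_cent hc⟩)
    (mem_center_iff.mpr fun q => Subtype.ext (h q.1 q.2))

theorem center_of_cases (D : Data z Q) {c : centralizer ({z} : Set G)}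
    (h : ∀ q ∈ Q, q * c = c * q) : c ∈ center (centralizer ({z} : Set G)) := by
  rw [mem_center_iff]
  intro y
  apply Subtype.ext
  show y.1 * c.1 = c.1 * y.1
  rcases centralizer_cases D h with e | e <;> rw [e]
  · simp
  · exact mem_centralizer_singleton_iff.mp y.2

/-- Every automorphism of the centraliser is inner. -/
theorem centralizer_inner (D : Data z Q) (β : MulAut (centralizer ({z} : Set G))) :
    ∃ c, ∀ x, β x = c * x * c⁻¹ := by
  have := D.normal
  obtain ⟨c, hc⟩ := D.rigid β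
  refine inner_of_rigid D.extra D.self_cent (fun x _ h => center_of_cases D h) D.perfect β
    (D.preserved β) (c := c) fun q h => ?_
  rcases hc q.1 q.2 with e | e
  · rw [show (⟨_, h⟩ : Q) = 1 from Subtype.ext (Subtype.ext e)]
    exact one_mem _
  · rw [show (⟨_, h⟩ : Q) = zQ D from Subtype.ext (Subtype.ext e)]
    exact zQ_central D

/-- An automorphism fixing `z` is inner on the centraliser. -/
theorem inner_of_fix (D : Data z Q) (α : MulAut G) (hα : α z = z) :
    ∃ c ∈ centralizer ({z} : Set G), ∀ x ∈ centralizer ({z} : Set G), α x = c * x * c⁻¹ := by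
  have hmap : (centralizer ({z} : Set G)).map (α : G →* G) = centralizer ({z} : Set G) := by
    ext x
    constructor
    · rintro ⟨y, hy, rfl⟩
      rw [mem_centralizer_singleton_iff]
      have := congrArg α (mem_centralizer_singleton_iff.mp hy)
      rwa [map_mul, map_mul, hα] at this
    · intro hx
      refine ⟨α.symm x, ?_, α.apply_symm_apply x⟩
      rw [SetLike.mem_coe, mem_centralizer_singleton_iff]
      apply α.injective
      rw [map_mul, map_mul, hα, α.apply_symm_apply]
      exact mem_centralizer_singleton_iff.mp hx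
  obtain ⟨c, hc⟩ := centralizer_inner D
    ((α.subgroupMap (centralizer ({z} : Set G))).trans (MulEquiv.subgroupCongr hmap))
  exact ⟨c.1, c.2, fun x hx => congrArg Subtype.val (hc ⟨x, hx⟩)⟩

theorem map_conj_class [Fact (Nat.Prime 2)] (D : Data z Q) (α : MulAut G) :
    ∃ g : G, α z = g * z * g⁻¹ := by
  classical
  have := D.normal
  have hQp : IsPGroup 2 (Q.map (centralizer ({z} : Set G)).subtype) := D.extra.1.1.map _
  obtain ⟨S, hS⟩ := hQp.exists_le_sylow
  let P : Subgroup G := (S : Subgroup G) ⊓ centralizer ({z} : Set G)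
  have hzS : z ∈ (S : Subgroup G) := hS ⟨_, D.mem_z, rfl⟩
  have hcen : ∀ x : G, (∀ y ∈ P, y * x = x * y) → x = 1 ∨ x = z := by
    intro x hx
    have hxC : x ∈ centralizer ({z} : Set G) :=
      mem_centralizer_singleton_iff.mpr
        (hx z (mem_inf.mpr ⟨hzS, mem_centralizer_singleton_iff.mpr rfl⟩)).symm
    exact centralizer_cases D (c := ⟨x, hxC⟩) fun q hq =>
      Subtype.ext (hx q.1 (mem_inf.mpr ⟨hS ⟨q, hq, rfl⟩, q.2⟩))
  -- the Sylow subgroup lies in the centraliser
  have hSC : (S : Subgroup G) ≤ centralizer ({z} : Set G) := by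
    have hnc := (S.2.isNilpotent)
    by_contra hne
    have hlt : P.subgroupOf S < ⊤ := lt_top_iff_ne_top.mpr fun h =>
      hne fun s hs => (mem_inf.mp (subgroupOf_eq_top.mp h hs)).2
    obtain ⟨s, hs, hsn⟩ := SetLike.exists_of_lt (Group.normalizerCondition_of_isNilpotent _ hlt)
    apply hsn
    rw [mem_subgroupOf]
    refine mem_inf.mpr ⟨s.2, mem_centralizer_singleton_iff.mpr ?_⟩
    have hnorm : ∀ y ∈ P, s.1⁻¹ * y * s.1 ∈ P := fun y hy => by
      have := (mem_normalizer_iff.mp (inv_mem hs) ⟨y, (mem_inf.mp hy).1⟩).mp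
        (mem_subgroupOf.mpr hy)
      simpa [mem_subgroupOf] using this
    rcases hcen (s.1 * z * s.1⁻¹) (fun y hy => by
      have h := mem_centralizer_singleton_iff.mp (mem_inf.mp (hnorm y hy)).2
      calc y * (s.1 * z * s.1⁻¹) = s.1 * (s.1⁻¹ * y * s.1 * z) * s.1⁻¹ := by group
        _ = s.1 * (z * (s.1⁻¹ * y * s.1)) * s.1⁻¹ := by rw [h]
        _ = s.1 * z * s.1⁻¹ * y := by group) with e | e
    · exact absurd (conj_eq_one_iff.mp e) D.ne_one
    · exact (mul_inv_eq_iff_eq_mul.mp e)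
  obtain ⟨g, hg⟩ := MulAction.exists_smul_eq G (S.mapSurjective (f := (α : G →* G)) α.surjective) S
  refine ⟨g⁻¹, ?_⟩
  have hz' : ∀ y ∈ (S : Subgroup G), y * (g * α z * g⁻¹) = g * α z * g⁻¹ * y := by
    intro y hy
    rw [← hg] at hy
    obtain ⟨w, ⟨s, hs, rfl⟩, rfl⟩ := hy
    show g * α s * g⁻¹ * (g * α z * g⁻¹) = g * α z * g⁻¹ * (g * α s * g⁻¹)
    have hsz := congrArg α (mem_centralizer_singleton_iff.mp (hSC hs))
    rw [map_mul, map_mul] at hsz
    calc g * α s * g⁻¹ * (g * α z * g⁻¹) = g * (α s * α z) * g⁻¹ := by group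
      _ = g * (α z * α s) * g⁻¹ := by rw [hsz]
      _ = _ := by group
  rcases hcen (g * α z * g⁻¹) (fun y hy => hz' y (mem_inf.mp hy).1) with e | e
  · exact absurd (α.map_eq_one_iff.mp (conj_eq_one_iff.mp e)) D.ne_one
  · calc α z = g⁻¹ * (g * α z * g⁻¹) * g := by group
      _ = g⁻¹ * z * g⁻¹⁻¹ := by rw [e, inv_inv]

theorem fix_both (D : Data z Q) {m : G} (hm : ∀ hmem : m * z * m⁻¹ ∈ centralizer ({z} : Set G),
      (⟨m * z * m⁻¹, hmem⟩ : centralizer ({z} : Set G)) ∈ Q)
    (hmC : m * z * m⁻¹ ∈ centralizer ({z} : Set G)) (hne : m * z * m⁻¹ ≠ z)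
    (hgen : centralizer ({z} : Set G) ⊔ centralizer ({m * z * m⁻¹} : Set G) = ⊤)
    (α : MulAut G) (hα : ∀ x ∈ centralizer ({z} : Set G), α x = x) :
    ∃ g : G, ∀ x, α x = g * x * g⁻¹ := by
  have : Fact (Nat.Prime 2) := ⟨Nat.prime_two⟩
  have := D.normal
  let tQ : Q := ⟨⟨m * z * m⁻¹, hmC⟩, hm hmC⟩
  have htz : tQ ∉ center Q := fun h => by
    rcases center_cases D h with e | e
    · exact D.ne_one (conj_eq_one_iff.mp e)
    · exact hne e
  let γ : MulAut G := (MulAut.conj m)⁻¹ * α * MulAut.conj m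
  have hγ : ∀ x, γ x = m⁻¹ * α (m * x * m⁻¹) * m := fun x => rfl
  obtain ⟨c, hcC, hc⟩ := inner_of_fix D γ (by rw [hγ, hα _ hmC]; group)
  set c' := m * c * m⁻¹ with hc'
  set t := m * z * m⁻¹ with ht
  have hαC' : ∀ y ∈ centralizer ({t} : Set G), α y = c' * y * c'⁻¹ := by
    intro y hy
    have hy' : m⁻¹ * y * m ∈ centralizer ({z} : Set G) := by
      rw [mem_centralizer_singleton_iff] at hy ⊢
      calc m⁻¹ * y * m * z = m⁻¹ * (y * t) * m := by rw [ht]; group
        _ = m⁻¹ * (t * y) * m := by rw [hy]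
        _ = z * (m⁻¹ * y * m) := by rw [ht]; group
    have h := hc _ hy'
    rw [hγ, show m * (m⁻¹ * y * m) * m⁻¹ = y by group] at h
    calc α y = m * (m⁻¹ * α y * m) * m⁻¹ := by group
      _ = _ := by rw [h, hc']; group
  have hc't : c' * t = t * c' := by
    rw [hc', ht]
    calc m * c * m⁻¹ * (m * z * m⁻¹) = m * (c * z) * m⁻¹ := by group
      _ = m * (z * c) * m⁻¹ := by rw [mem_centralizer_singleton_iff.mp hcC]
      _ = _ := by group
  have hzt : z * t = t * z := (mem_centralizer_singleton_iff.mp hmC).symm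
  have hcomm : ∀ y, y * z = z * y → y * t = t * y → c' * y = y * c' := by
    intro y h1 h2
    have h := (hα y (mem_centralizer_singleton_iff.mpr h1)).symm.trans
      (hαC' y (mem_centralizer_singleton_iff.mpr h2))
    exact (eq_mul_inv_iff_mul_eq.mp h).symm
  have hc'z : c' ∈ centralizer ({z} : Set G) :=
    mem_centralizer_singleton_iff.mpr (hcomm z rfl hzt)
  have ht2 : tQ * tQ = 1 := Subtype.ext (Subtype.ext (by
    show m * z * m⁻¹ * (m * z * m⁻¹) = 1
    calc m * z * m⁻¹ * (m * z * m⁻¹) = m * (z * z) * m⁻¹ := by group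
      _ = 1 := by rw [z_sq D]; group))
  obtain ⟨u, hu, k, huk⟩ := mem_of_fix_centralizer D.extra D.self_cent ht2 htz
    (d := (⟨c', hc'z⟩ : centralizer ({z} : Set G))) fun q hq =>
      mul_inv_eq_iff_eq_mul.mpr (Subtype.ext
        (hcomm q.1.1 (mem_centralizer_singleton_iff.mp q.1.2)
          (congrArg (fun a : Q => (a.1 : G)) hq)))
  refine ⟨u.1.1, fun x => ?_⟩
  have hut : u.1.1 * t = t * u.1.1 :=
    (congrArg (fun a : Q => (a.1 : G)) (mem_center_iff.mp hu tQ)).symm
  let K : Subgroup G :=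
    { carrier := {x | α x = u.1.1 * x * u.1.1⁻¹}
      one_mem' := by simp
      mul_mem' := fun {a b} ha hb => by
        show α (a * b) = _
        rw [map_mul, ha, hb]; group
      inv_mem' := fun {a} ha => by
        show α a⁻¹ = _
        rw [map_inv, ha]; group }
  suffices hK : K = ⊤ by exact (hK ▸ mem_top x : x ∈ K)
  rw [eq_top_iff, ← hgen, sup_le_iff]
  constructor
  · intro y hy
    show α y = _
    rw [hα y hy]
    rcases center_cases D hu with e | e <;> rw [e]
    · group
    · rw [← mem_centralizer_singleton_iff.mp hy, mul_inv_cancel_right]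
  · intro y hy
    show α y = _
    rw [hαC' y hy]
    have hct : c' = u.1.1 * (t ^ k) := by
      have := congrArg Subtype.val huk
      simpa [tQ, ht, conj_zpow] using this
    have hk : t ^ k * y = y * t ^ k :=
      ((Commute.zpow_left (show Commute t y from (mem_centralizer_singleton_iff.mp hy).symm) k).eq)
    rw [hct, _root_.mul_inv_rev, mul_assoc u.1.1 (t ^ k) y, hk]
    group

/-- Every automorphism is inner. -/
theorem card_out_eq_one (D : Data z Q) {m : G}
    (hmC : m * z * m⁻¹ ∈ centralizer ({z} : Set G))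
    (hm : (⟨m * z * m⁻¹, hmC⟩ : centralizer ({z} : Set G)) ∈ Q) (hne : m * z * m⁻¹ ≠ z)
    (hgen : centralizer ({z} : Set G) ⊔ centralizer ({m * z * m⁻¹} : Set G) = ⊤) :
    Nat.card (Cfsg.Out G) = 1 := by
  have : Fact (Nat.Prime 2) := ⟨Nat.prime_two⟩
  have key : ∀ α : MulAut G, α ∈ Cfsg.Inn G := by
    intro α
    obtain ⟨g, hg⟩ := map_conj_class D α
    have hfix : ((MulAut.conj g)⁻¹ * α) z = z := by
      show g⁻¹ * α z * g = z
      rw [hg]; group
    obtain ⟨c, -, hc⟩ := inner_of_fix D _ hfix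
    have hfixC : ∀ x ∈ centralizer ({z} : Set G),
        ((MulAut.conj c)⁻¹ * ((MulAut.conj g)⁻¹ * α)) x = x := fun x hx => by
      show c⁻¹ * (((MulAut.conj g)⁻¹ * α) x) * c = x
      rw [hc x hx]; group
    obtain ⟨u, hu⟩ := fix_both D (fun _ => hm) hmC hne hgen _ hfixC
    refine ⟨g * c * u, MulEquiv.ext fun x => ?_⟩
    have h : c⁻¹ * (g⁻¹ * α x * g) * c = u * x * u⁻¹ := hu x
    show g * c * u * x * (g * c * u)⁻¹ = α x
    calc g * c * u * x * (g * c * u)⁻¹ = g * c * (u * x * u⁻¹) * c⁻¹ * g⁻¹ := by group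
      _ = g * c * (c⁻¹ * (g⁻¹ * α x * g) * c) * c⁻¹ * g⁻¹ := by rw [h]
      _ = α x := by group
  have : Subsingleton (Cfsg.Out G) := ⟨fun a b => by
    obtain ⟨a, rfl⟩ := QuotientGroup.mk_surjective a
    obtain ⟨b, rfl⟩ := QuotientGroup.mk_surjective b
    exact QuotientGroup.eq.mpr (key _)⟩
  exact Nat.card_unique

end Cfsg.Agent.LargeOut
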