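import Cfsg.Agent.LargeOut.Co1Coord
import Cfsg.Agent.LargeOut.Basic

/-!
Automorphisms of the centraliser of the involution of `Co₁` are rigid on the extraspecial group.
-/

set_option autoImplicit false

namespace Cfsg.Agent.LargeOut

open Cfsg Cfsg.Agent.Golay Cfsg.Agent.Leech Cfsg.Agent.Co2Invol
open scoped Matrix

theorem preserved_kerBar (β : MulAut C1) {q : C1} (hq : q ∈ Co1Invol.kerBar) :
    β q ∈ Co1Invol.kerBar := by
  rw [← Co1Invol.pCore_eq] at hq ⊢
  rw [← Cores.map_pCore_equiv β]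
  exact ⟨q, hq, rfl⟩

theorem psi_map_zC (β : MulAut C1) : psi (β zC) = 0 := by
  funext s
  refine if_pos ?_
  obtain ⟨w, hw⟩ := β.surjective (eC (Co1Invol.flip8 s))
  rw [← hw, ← map_mul, ← map_mul, zC_comm]

theorem psi_one : psi (1 : C1) = 0 := by
  funext s
  exact if_pos (by rw [one_mul, mul_one])

theorem psi_congr (β : MulAut C1) {a : C1} (ha : a ∈ Co1Invol.kerBar) :
    psi (β (psiLift (psi a))) = psi (β a) := by
  have hc := psiLift_mem (psi a)
  have hw : (psiLift (psi a))⁻¹ * a ∈ Co1Invol.kerBar := mul_mem (inv_mem hc) ha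
  have h := psi_mul hc hw
  rw [mul_inv_cancel_left, psi_psiLift] at h
  have h0 : psi ((psiLift (psi a))⁻¹ * a) = 0 := left_eq_add.mp h
  have e : β a = β (psiLift (psi a)) * β ((psiLift (psi a))⁻¹ * a) := by
    rw [← map_mul, mul_inv_cancel_left]
  rw [e, psi_mul (preserved_kerBar β hc) (preserved_kerBar β hw)]
  rcases psi_eq_zero hw h0 with h1 | h1 <;> rw [h1]
  · rw [map_one, psi_one, add_zero]
  · rw [psi_map_zC, add_zero]

/-- The induced linear map. -/
noncomputable def autLin (β : MulAut C1) :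
    (Fin 4 ⊕ Fin 4 → ZMod 2) →ₗ[ZMod 2] (Fin 4 ⊕ Fin 4 → ZMod 2) :=
  AddMonoidHom.toZModLinearMap 2
    (AddMonoidHom.mk' (fun v => psi (β (psiLift v))) fun v w => by
      have h := psi_congr β (mul_mem (psiLift_mem v) (psiLift_mem w))
      rw [psi_mul (psiLift_mem v) (psiLift_mem w), psi_psiLift, psi_psiLift, map_mul,
        psi_mul (preserved_kerBar β (psiLift_mem v)) (preserved_kerBar β (psiLift_mem w))] at h
      exact h)

theorem autLin_psi (β : MulAut C1) {a : C1} (ha : a ∈ Co1Invol.kerBar) :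
    autLin β (psi a) = psi (β a) := psi_congr β ha

theorem autLin_one (v : Fin 4 ⊕ Fin 4 → ZMod 2) : autLin 1 v = v := psi_psiLift v

theorem autLin_mul (β γ : MulAut C1) (v : Fin 4 ⊕ Fin 4 → ZMod 2) :
    autLin (β * γ) v = autLin β (autLin γ v) := by
  rw [← psi_psiLift v, autLin_psi _ (psiLift_mem v), autLin_psi _ (psiLift_mem v),
    autLin_psi _ (preserved_kerBar γ (psiLift_mem v))]
  rfl

/-- The matrix representation. -/
noncomputable def autMat : MulAut C1 →* Matrix (Fin 4 ⊕ Fin 4) (Fin 4 ⊕ Fin 4) (ZMod 2) where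
  toFun β := LinearMap.toMatrix' (autLin β)
  map_one' := Matrix.ext_of_mulVec_single fun s => by
    rw [LinearMap.toMatrix'_mulVec, autLin_one, Matrix.one_mulVec]
  map_mul' β γ := Matrix.ext_of_mulVec_single fun s => by
    rw [LinearMap.toMatrix'_mulVec, ← Matrix.mulVec_mulVec, LinearMap.toMatrix'_mulVec,
      LinearMap.toMatrix'_mulVec, autLin_mul]

/-- The representation in the isometry group. -/
noncomputable def theta : MulAut C1 →* Co1Invol.OPlus :=
  (MonoidHom.toHomUnits autMat).codRestrict Co1Invol.OPlus fun β => by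
    rw [Co1Invol.mem_OPlus]
    intro v
    show quadFormPlus 4 (ZMod 2) (LinearMap.toMatrix' (autLin β) *ᵥ v) = _
    rw [LinearMap.toMatrix'_mulVec, ← psi_psiLift v, autLin_psi _ (psiLift_mem v)]
    have h1 := sq_eq_one_iff (psiLift_mem v)
    have h2 := sq_eq_one_iff (preserved_kerBar β (psiLift_mem v))
    have h3 : β (psiLift v) * β (psiLift v) = 1 ↔ psiLift v * psiLift v = 1 := by
      rw [← map_mul, MulEquiv.map_eq_one_iff]
    have hc : ∀ a b : ZMod 2, (a = 0 ↔ b = 0) → a = b := by decide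
    exact hc _ _ (h2.symm.trans (h3.trans h1))

theorem theta_psi (β : MulAut C1) {a : C1} (ha : a ∈ Co1Invol.kerBar) :
    (theta β).1.1 *ᵥ psi a = psi (β a) :=
  (LinearMap.toMatrix'_mulVec _ _).trans (autLin_psi β ha)

/-- The action by conjugation. -/
noncomputable def rhoQ : C1 →* Co1Invol.OPlus := theta.comp MulAut.conj

theorem rhoQ_psi (c : C1) {a : C1} (ha : a ∈ Co1Invol.kerBar) :
    (rhoQ c).1.1 *ᵥ psi a = psi (c * a * c⁻¹) := by
  rw [rhoQ, MonoidHom.comp_apply, theta_psi _ ha, MulAut.conj_apply]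

theorem kerBar_le_ker : Co1Invol.kerBar ≤ rhoQ.ker := by
  intro c hc
  refine Subtype.ext (Units.ext (Matrix.ext_of_mulVec_single fun s => ?_))
  show _ = (1 : Matrix (Fin 4 ⊕ Fin 4) (Fin 4 ⊕ Fin 4) (ZMod 2)) *ᵥ _
  rw [Matrix.one_mulVec, ← psi_eC, rhoQ_psi c (a := eC s) (qC_mem (baseIdx s))]
  have h := psi_mul (mul_mem hc (qC_mem (baseIdx s))) (inv_mem hc)
  have h' := psi_mul hc (inv_mem hc)
  rw [mul_inv_cancel, psi_one] at h'
  unfold eC
  rw [h, psi_mul hc (qC_mem (baseIdx s)), add_right_comm, ← h', zero_add]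

/-! ### The two witnesses -/

/-- The first witness table: a sign change. -/
def xTab : MTab := tabOf id (Golay.enc 2)

/-- The word of the second witness. -/
def yWord : List ℕ := [2, 49, 7, 56, 66, 56, 118, 135, 83, 176, 105, 176, 176, 191, 147, 135, 2, 7, 2, 7, 56, 91, 56, 163, 118, 176, 191, 163, 2, 49, 7, 56, 66, 56, 118, 135, 83, 176, 105, 176, 176, 191, 147, 135, 1, 1, 2, 41, 7, 56, 66, 56, 105, 83, 163, 176, 105, 176, 176, 163, 135, 1, 2, 91, 7, 176, 56, 56, 176, 105, 83, 191, 147, 105, 176, 176, 191, 163, 147, 91, 7, 2, 41, 66, 56, 83, 83, 105, 105, 191, 193, 2, 7, 2, 7, 56, 91, 56, 163, 118, 176, 191, 163]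

/-- The second witness table. -/
def yTab : MTab :=
  [(23, false), (14, true), (3, true), (2, false), (20, true), (17, true), (9, false), (10, false), (6, false), (16, false), (13, false), (22, false), (4, true), (18, false), (1, false), (19, false), (8, false), (5, false), (7, false), (11, false), (21, true), (12, true), (15, false), (0, true)]

/-- Indices of the conjugates of the basis under the first witness. -/
def xConj : List (Fin 16 × Fin 32) := [(1, 17), (2, 2), (3, 16), (4, 25), (0, 13), (0, 14), (0, 8), (0, 15)]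

/-- Indices of the conjugates of the basis under the second witness. -/
def yConj : List (Fin 16 × Fin 32) := [(1, 0), (5, 16), (3, 16), (4, 6), (0, 3), (0, 17), (0, 23), (0, 15)]

/-- The position of a coordinate. -/
def coord8 : Fin 4 ⊕ Fin 4 → ℕ := Sum.elim (fun i => i.val) fun i => i.val + 4

/-- The columns of the first witness. -/
def xBits : List ℕ := [33, 146, 132, 104, 16, 32, 64, 128]

/-- The columns of the second witness. -/
def yBits : List ℕ := [1, 131, 132, 104, 48, 32, 64, 128]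

/-- A matrix given by columns. -/
def bitsMat (l : List ℕ) : Matrix (Fin 4 ⊕ Fin 4) (Fin 4 ⊕ Fin 4) (ZMod 2) :=
  Matrix.of fun r s => Co1Invol.bitVec8 (l.getD (coord8 s) 0) r

theorem witness_word : wordTab yWord = yTab ∧ 0 ∉ yWord ∧ wordTab [194] = xTab := by
  decide +kernel

theorem witness_checks :
    mulTab xTab (tabOf id 8241104) = mulTab (tabOf id 8241104) xTab ∧
    mulTab yTab (tabOf id 8241104) = mulTab (tabOf id 8241104) yTab ∧
    eqTab (mulTab xTab xTab) oneTab = true ∧
    ∀ s, eqTab (mulTab xTab (qTab (baseIdx s))) (mulTab (qTab (xConj.getD (coord8 s) (0, 0))) xTab) = true ∧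
      eqTab (mulTab yTab (qTab (baseIdx s))) (mulTab (qTab (yConj.getD (coord8 s) (0, 0))) yTab) = true ∧
      psiTab (xConj.getD (coord8 s) (0, 0)) = (fun r => bitsMat xBits r s) ∧
      psiTab (yConj.getD (coord8 s) (0, 0)) = (fun r => bitsMat yBits r s) := by
  decide +kernel

theorem witness_square : ∀ i : Fin 16 × Fin 32,
    eqTab (mulTab (mulTab yTab (qTab i)) (mulTab yTab (qTab i))) oneTab = false := by
  decide +kernel

theorem witness_mat : bitsMat yBits = Co1Invol.reflMat * bitsMat xBits * Co1Invol.reflMat ∧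
    bitsMat xBits ≠ 1 := by
  decide +kernel

theorem rhoQ_mat {g : Co1Invol.centT} {G : MTab} (hg : Mono g G) {idx : List (Fin 16 × Fin 32)}
    {bits : List ℕ}
    (h : ∀ s, eqTab (mulTab G (qTab (baseIdx s))) (mulTab (qTab (idx.getD (coord8 s) (0, 0))) G) = true ∧
      psiTab (idx.getD (coord8 s) (0, 0)) = fun r => bitsMat bits r s) :
    (rhoQ (Co1Invol.proj g)).1.1 = bitsMat bits := by
  refine Matrix.ext_of_mulVec_single fun s => ?_
  obtain ⟨h1, h2⟩ := h s
  rw [← psi_eC, rhoQ_psi _ (a := eC s) (qC_mem (baseIdx s))]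
  have e : Co1Invol.proj g * eC s = qC (idx.getD (coord8 s) (0, 0)) * Co1Invol.proj g := by
    rw [eC, qC, qC, ← map_mul, ← map_mul,
      Mono.proj_eq_iff (hg.mul (mono_qT _)) ((mono_qT _).mul hg)]
    exact h1
  rw [e, mul_inv_cancel_right, psi_qC, h2, psi_eC, Matrix.mulVec_single_one]
  rfl

theorem exists_witness : ∃ x y : C1, x * x = 1 ∧ rhoQ x ≠ 1 ∧
    rhoQ y = Co1Invol.refl * rhoQ x * Co1Invol.refl ∧
    ∀ q ∈ Co1Invol.kerBar, y * q * (y * q) ≠ 1 := by
  obtain ⟨hc1, hc2, hsq, hcols⟩ := witness_checks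
  obtain ⟨hw, h0, hx⟩ := witness_word
  obtain ⟨gy, hgy⟩ := exists_mono_word yWord h0
  obtain ⟨gx, hgx⟩ := exists_mono_word [194] (by decide)
  rw [hw] at hgy
  rw [hx] at hgx
  let X : Co1Invol.centT := ⟨gx, mono_mem_centT hgx hc1⟩
  let Y : Co1Invol.centT := ⟨gy, mono_mem_centT hgy hc2⟩
  have hX : Mono X xTab := hgx
  have hY : Mono Y yTab := hgy
  have eX := rhoQ_mat hX fun s => ⟨(hcols s).1, (hcols s).2.2.1⟩
  have eY := rhoQ_mat hY fun s => ⟨(hcols s).2.1, (hcols s).2.2.2⟩
  refine ⟨Co1Invol.proj X, Co1Invol.proj Y, ?_, ?_, ?_, ?_⟩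
  · rw [← map_mul, ← map_one Co1Invol.proj,
      Mono.proj_eq_iff (a := X * X) (b := 1) (hX.mul hX) mono_one]
    exact hsq
  · intro h
    refine witness_mat.2 ?_
    rw [← eX, h]; rfl
  · refine Subtype.ext (Units.ext ?_)
    show _ = Co1Invol.reflMat * _ * Co1Invol.reflMat
    rw [eX, eY, witness_mat.1]
  · intro q hq h
    obtain ⟨i, rfl⟩ := mem_kerBar_iff.mp hq
    rw [qC, ← map_mul, ← map_mul, ← map_one Co1Invol.proj,
      Mono.proj_eq_iff (b := 1) ((hY.mul (mono_qT i)).mul (hY.mul (mono_qT i))) mono_one,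
      witness_square i] at h
    exact Bool.false_ne_true h

theorem rhoQ_ker : rhoQ.ker = Co1Invol.kerBar := by
  have := Co1Invol.isSimpleGroup_omega
  refine le_antisymm ?_ kerBar_le_ker
  rcases ((MonoidHom.normal_ker rhoQ).map Co1Invol.barHom
    Co1Invol.barHom_surjective).eq_bot_or_eq_top with h | h
  · rwa [Subgroup.map_eq_bot_iff, Co1Invol.barHom_ker] at h
  · exfalso
    obtain ⟨x, -, -, hx, -⟩ := exists_witness
    obtain ⟨k, hk, hkx⟩ : Co1Invol.barHom x ∈ rhoQ.ker.map Co1Invol.barHom := h ▸ Subgroup.mem_top _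
    have : k⁻¹ * x ∈ Co1Invol.kerBar := by
      rw [← Co1Invol.barHom_ker, MonoidHom.mem_ker, map_mul, map_inv, hkx, inv_mul_cancel]
    exact hx (MonoidHom.mem_ker.mp (by simpa using mul_mem hk (kerBar_le_ker this)))

theorem rhoQ_range : rhoQ.range = Omega (ZMod 2) (quadFormPlus 4 (ZMod 2)) := by
  have hcard : Nat.card rhoQ.range = Nat.card (Omega (ZMod 2) (quadFormPlus 4 (ZMod 2))) :=
    Nat.card_congr (((QuotientGroup.quotientKerEquivRange rhoQ).symm.trans
      (QuotientGroup.quotientMulEquivOfEq (rhoQ_ker.trans Co1Invol.barHom_ker.symm))).trans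
      (QuotientGroup.quotientKerEquivOfSurjective _ Co1Invol.barHom_surjective)).toEquiv
  have h1 := rhoQ.range.card_mul_index
  rw [hcard, Co1Invol.card_omega.1, mul_comm 2] at h1
  have hidx : rhoQ.range.index = 2 := Nat.eq_of_mul_eq_mul_left Nat.card_pos h1
  have hle : Omega (ZMod 2) (quadFormPlus 4 (ZMod 2)) ≤ rhoQ.range := by
    show commutator Co1Invol.OPlus ≤ _
    rw [commutator_def, Subgroup.commutator_le]
    intro a _ b _
    simp only [commutatorElement_def, Subgroup.mul_mem_iff_of_index_two hidx, inv_mem_iff]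
    tauto
  exact (Subgroup.eq_of_le_of_card_ge hle hcard.le).symm

theorem theta_mem_range (β : MulAut C1) : theta β ∈ rhoQ.range := by
  have hrange : rhoQ.range = Co1Invol.rho8.range := rhoQ_range.trans Co1Invol.range_eq_omega.symm
  rcases Co1Invol.cases_range (theta β) with h | h
  · rw [hrange]; exact h
  exfalso
  rw [← hrange] at h
  obtain ⟨c, hc⟩ := h
  obtain ⟨β', hβ'⟩ : ∃ β' : MulAut C1, β' = (MulAut.conj c)⁻¹ * β := ⟨_, rfl⟩
  have hθ : theta β' = Co1Invol.refl := by
    rw [hβ', map_mul, map_inv, show theta (MulAut.conj c) = theta β * Co1Invol.refl from hc,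
      mul_inv_rev, mul_assoc, inv_mul_cancel, mul_one,
      inv_eq_of_mul_eq_one_right Co1Invol.refl_sq]
  obtain ⟨x, y, hx, -, hy, hne⟩ := exists_witness
  have hconj : rhoQ (β' x) = rhoQ y := by
    have e : MulAut.conj (β' x) = β' * MulAut.conj x * β'⁻¹ := MulEquiv.ext fun a => by
      show β' x * a * (β' x)⁻¹ = β' (x * β'⁻¹ a * x⁻¹)
      rw [map_mul, map_mul, map_inv, MulAut.apply_inv_self]
    show theta (MulAut.conj (β' x)) = _
    rw [e, map_mul, map_mul, map_inv, hθ, inv_eq_of_mul_eq_one_right Co1Invol.refl_sq, hy]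
    rfl
  have hq : y⁻¹ * β' x ∈ Co1Invol.kerBar := by
    rw [← rhoQ_ker, MonoidHom.mem_ker, map_mul, map_inv, hconj, inv_mul_cancel]
  refine hne _ hq ?_
  rw [mul_inv_cancel_left, ← map_mul, hx, map_one]

theorem isExtraspecial_kerBar [Finite ↥Co2Invol.rho.ker] :
    Cfsg.IsExtraspecial 2 Co1Invol.kerBar :=
  LargeExtra.isExtraspecial_map_equiv Co2Invol.isExtraspecial_ker Co1Invol.qEquiv

theorem co1_data : Data Co1Invol.zBar Co1Invol.kerBar where
  normal := Co1Invol.kerBar_normal
  extra := by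
    have : Finite ↥Co2Invol.rho.ker :=
      Nat.finite_of_card_ne_zero (by rw [Co2Invol.card_ker]; norm_num)
    exact isExtraspecial_kerBar
  self_cent := Co1Invol.centralizer_kerBar
  mem_z := zC_mem
  ne_one := fun h => zC_ne_one (Subtype.ext h)
  preserved := fun β _ hq => preserved_kerBar β hq
  perfect := by
    have := Co1Invol.isSimpleGroup_omega
    intro x
    have hn : (commutator C1).Normal := inferInstance
    have h : Co1Invol.barHom x ∈ (commutator C1).map Co1Invol.barHom := by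
      rw [commutator_def, Subgroup.map_commutator, Subgroup.map_top_of_surjective _
        Co1Invol.barHom_surjective, ← commutator_def]
      rcases (inferInstance : (commutator ↥(Omega (ZMod 2) (quadFormPlus 4 (ZMod 2)))).Normal).eq_bot_or_eq_top
        with e | e
      · exfalso
        have hc := Co1Invol.card_omega.2
        rw [commutator_eq_bot_iff_center_eq_top ↥(Omega (ZMod 2) (quadFormPlus 4 (ZMod 2)))] at e; rw [e] at hc
        exact absurd hc bot_ne_top.symm
      · rw [e]; exact Subgroup.mem_top _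
    obtain ⟨k, hk, hkx⟩ := h
    have hq : k⁻¹ * x ∈ Co1Invol.kerBar := by
      rw [← Co1Invol.barHom_ker, MonoidHom.mem_ker, map_mul, map_inv, hkx, inv_mul_cancel]
    have h1 := mul_mem ((le_sup_right : commutator C1 ≤ Co1Invol.kerBar ⊔ _) hk)
      ((le_sup_left : Co1Invol.kerBar ≤ _ ⊔ commutator C1) hq)
    rwa [mul_inv_cancel_left] at h1
  rigid := by
    intro β
    obtain ⟨c, hc⟩ := theta_mem_range β
    refine ⟨c, fun q hq => ?_⟩
    have hcq : c * q * c⁻¹ ∈ Co1Invol.kerBar := Co1Invol.kerBar_normal.conj_mem q hq c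
    have hw := mul_mem (inv_mem hcq) (preserved_kerBar β hq)
    have e := psi_mul hcq hw
    rw [mul_inv_cancel_left, ← rhoQ_psi c hq, hc, theta_psi β hq] at e
    rcases psi_eq_zero hw (left_eq_add.mp e) with h | h <;> rw [h]
    · exact Or.inl rfl
    · exact Or.inr rfl

end Cfsg.Agent.LargeOut
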