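import Cfsg.Agent.LargeOut.Mono

/-!
Coordinates on the extraspecial group in the centraliser of the involution of `Co₁`.
-/

set_option autoImplicit false

namespace Cfsg.Agent.LargeOut

open Cfsg Cfsg.Agent.Golay Cfsg.Agent.Leech Cfsg.Agent.Co2Invol

/-- The centraliser in `Co₁`. -/
abbrev C1 : Subgroup Spor.Co1 := Subgroup.centralizer ({Co1Invol.zBar} : Set Spor.Co1)

/-- A word of the pointwise stabiliser of the octad. -/
def octWord (a : Fin 16) : List ℕ := (transWords.getD 6 []).getD a.val []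

theorem octWord_checks : (∀ a, octWord a ∈ transWords.getD 6 []) ∧
    ∀ w ∈ transWords.getD 6 [], ∃ a, octWord a = w := by
  decide +kernel

/-- A code word avoiding the octad. -/
def codeAt (k : Fin 32) : ℕ := codeList.getD k.val 0

theorem codeAt_checks : (∀ k, codeAt k ∈ codeList) ∧ ∀ c ∈ codeList, ∃ k, codeAt k = c := by
  decide +kernel

/-- An element of the kernel by indices. -/
noncomputable def qel (i : Fin 16 × Fin 32) : rho.ker :=
  kerFun (Classical.choose (trans6_octFix _ (octWord_checks.1 i.1)),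
    ⟨bitSet (Golay.enc (codeAt i.2)), bitSet_enc_supports _, code_mem _ (codeAt_checks.1 i.2)⟩)

/-- Its table. -/
def qTab (i : Fin 16 × Fin 32) : MTab := tabOf (wordFun (octWord i.1)) (Golay.enc (codeAt i.2))

theorem qel_surjective : Function.Surjective qel := by
  intro g
  obtain ⟨⟨σ, c⟩, rfl⟩ := kerFun_bijective.2 g
  obtain ⟨w, hw, ew⟩ := octFix_word σ
  obtain ⟨k, hk, ek⟩ := code_cover c.2.1 c.2.2
  obtain ⟨a, rfl⟩ := octWord_checks.2 w hw
  obtain ⟨b, rfl⟩ := codeAt_checks.2 k hk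
  refine ⟨(a, b), congrArg kerFun (Prod.ext ?_ (Subtype.ext ek.symm))⟩
  refine Subtype.ext (DFunLike.coe_injective ?_)
  rw [ew]
  exact Classical.choose_spec (trans6_octFix _ (octWord_checks.1 a))

/-- The element in the centraliser in `Co₀`. -/
noncomputable def qT (i : Fin 16 × Fin 32) : Co1Invol.centT := Co1Invol.inclT (qel i).1

theorem mono_qT (i : Fin 16 × Fin 32) : Mono (qT i) (qTab i) := by
  refine mono_tabOf fun x p => ?_
  show (kerElem _ _ • x).1 p = _
  rw [kerElem_smul, flipOn_bitSet]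
  simp only [flipMask, sgn, Function.comp_apply,
    Classical.choose_spec (trans6_octFix _ (octWord_checks.1 i.1))]

/-- The element in the centraliser in `Co₁`. -/
noncomputable def qC (i : Fin 16 × Fin 32) : C1 := Co1Invol.proj (qT i)

theorem mem_kerBar_iff {c : C1} : c ∈ Co1Invol.kerBar ↔ ∃ i, qC i = c := by
  rw [← Co1Invol.qHom_range]
  constructor
  · rintro ⟨q, rfl⟩
    obtain ⟨i, rfl⟩ := qel_surjective q
    exact ⟨i, rfl⟩
  · rintro ⟨i, rfl⟩
    exact ⟨qel i, rfl⟩

theorem qC_mem (i : Fin 16 × Fin 32) : qC i ∈ Co1Invol.kerBar := mem_kerBar_iff.mpr ⟨i, rfl⟩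

theorem qC_eq_iff (i j : Fin 16 × Fin 32) : qC i = qC j ↔ eqTab (qTab i) (qTab j) = true :=
  (mono_qT i).proj_eq_iff (mono_qT j)

theorem qC_one_iff (i : Fin 16 × Fin 32) : qC i = 1 ↔ eqTab (qTab i) oneTab = true := by
  rw [← (mono_qT i).proj_eq_iff (b := 1) mono_one, map_one]
  rfl

theorem qC_sq_iff (i : Fin 16 × Fin 32) :
    qC i * qC i = 1 ↔ eqTab (mulTab (qTab i) (qTab i)) oneTab = true := by
  rw [← Mono.proj_eq_iff (a := qT i * qT i) (b := 1) ((mono_qT i).mul (mono_qT i)) mono_one,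
    map_one, map_mul]
  rfl

theorem qC_comm_iff (i j : Fin 16 × Fin 32) : qC i * qC j = qC j * qC i ↔
    eqTab (mulTab (qTab i) (qTab j)) (mulTab (qTab j) (qTab i)) = true := by
  rw [← Mono.proj_eq_iff (a := qT i * qT j) (b := qT j * qT i) ((mono_qT i).mul (mono_qT j))
    ((mono_qT j).mul (mono_qT i)), map_mul, map_mul]
  rfl

/-- The central involution. -/
def zC : C1 := ⟨Co1Invol.zBar, Subgroup.mem_centralizer_singleton_iff.mpr rfl⟩

theorem qHom_invTKer : Co1Invol.qHom invTKer = zC := rfl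

theorem zC_mem : zC ∈ Co1Invol.kerBar :=
  qHom_invTKer ▸ Co1Invol.qHom_range ▸ ⟨invTKer, rfl⟩

theorem zC_comm (a : C1) : a * zC = zC * a :=
  Subtype.ext (Subgroup.mem_centralizer_singleton_iff.mp a.2)

theorem zC_ne_one : zC ≠ 1 := fun h =>
  invTKer_ne_one (Co1Invol.qHom_injective (h.trans (map_one _).symm))

theorem zC_sq : zC * zC = 1 := by
  rw [← qHom_invTKer, ← map_mul, invTKer_sq, map_one]

open scoped commutatorElement in
theorem comm_cases {a b : C1} (ha : a ∈ Co1Invol.kerBar) (hb : b ∈ Co1Invol.kerBar) :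
    a * b = b * a ∨ a * b = b * a * zC := by
  rw [← Co1Invol.qHom_range] at ha hb
  obtain ⟨k, rfl⟩ := ha
  obtain ⟨j, rfl⟩ := hb
  have hmem : ⁅k, j⁆ ∈ Subgroup.center ↥rho.ker := by
    rw [← isExtraspecial_ker.1.2.2, commutator_def]
    exact Subgroup.commutator_mem_commutator (Subgroup.mem_top _) (Subgroup.mem_top _)
  rcases central_cases (g := ⁅k, j⁆) (fun x => Subgroup.mem_center_iff.mp hmem x) with e | e
  · left
    rw [← map_mul, ← map_mul, commutatorElement_eq_one_iff_mul_comm.mp e]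
  · right
    rw [commutatorElement_def, mul_inv_eq_iff_eq_mul, mul_inv_eq_iff_eq_mul] at e
    rw [← map_mul, ← map_mul, ← qHom_invTKer, ← map_mul]
    congr 1
    rw [e, mul_assoc, ← invTKer_central (j * k)]

/-- Indices of the eight basis elements. -/
def baseIdx : Fin 4 ⊕ Fin 4 → Fin 16 × Fin 32
  | .inl i => (⟨i.val + 1, by omega⟩, 0)
  | .inr i => (0, ![13, 14, 8, 15] i)

/-- The basis elements. -/
noncomputable def eC (s : Fin 4 ⊕ Fin 4) : C1 := qC (baseIdx s)

/-- The coordinates of an element. -/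
noncomputable def psi (a : C1) : Fin 4 ⊕ Fin 4 → ZMod 2 :=
  fun s => @ite _ (a * eC (Co1Invol.flip8 s) = eC (Co1Invol.flip8 s) * a) (_root_.Classical.propDecidable _) 0 1

/-- The coordinates from the table. -/
def psiTab (i : Fin 16 × Fin 32) : Fin 4 ⊕ Fin 4 → ZMod 2 :=
  fun s => if eqTab (mulTab (qTab i) (qTab (baseIdx (Co1Invol.flip8 s))))
    (mulTab (qTab (baseIdx (Co1Invol.flip8 s))) (qTab i)) then 0 else 1

theorem psi_qC (i : Fin 16 × Fin 32) : psi (qC i) = psiTab i := by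
  funext s
  unfold psi psiTab eC
  exact @if_congr _ _ _ (_root_.Classical.propDecidable _) _ _ _ _ _ (qC_comm_iff i _) rfl rfl

theorem psi_mul {a b : C1} (ha : a ∈ Co1Invol.kerBar) (hb : b ∈ Co1Invol.kerBar) :
    psi (a * b) = psi a + psi b := by
  funext s
  have he : eC (Co1Invol.flip8 s) ∈ Co1Invol.kerBar := qC_mem _
  have h11 : (1 : ZMod 2) + 1 = 0 := rfl
  simp only [psi, Pi.add_apply]
  generalize eC (Co1Invol.flip8 s) = e at he ⊢
  have hne : ∀ c : C1, c ≠ c * zC := fun c h => zC_ne_one (mul_eq_left.mp h.symm)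
  have hz : ∀ c : C1, zC * c = c * zC := fun c => (zC_comm c).symm
  rcases comm_cases ha he with h1 | h1 <;> rcases comm_cases hb he with h2 | h2
  · have h3 : a * b * e = e * (a * b) := by rw [mul_assoc, h2, ← mul_assoc, h1, mul_assoc]
    rw [if_pos h1, if_pos h2, if_pos h3, add_zero]
  · have h3 : a * b * e = e * (a * b) * zC := by
      rw [mul_assoc, h2, ← mul_assoc, ← mul_assoc, h1, mul_assoc e]
    have n2 : ¬ b * e = e * b := fun h => hne _ (h.symm.trans h2)
    have n3 : ¬ a * b * e = e * (a * b) := fun h => hne _ (h.symm.trans h3)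
    rw [if_pos h1, if_neg n2, if_neg n3, zero_add]
  · have h3 : a * b * e = e * (a * b) * zC := by
      rw [mul_assoc, h2, ← mul_assoc, h1, mul_assoc (e * a), hz b, ← mul_assoc, mul_assoc e]
    have n1 : ¬ a * e = e * a := fun h => hne _ (h.symm.trans h1)
    have n3 : ¬ a * b * e = e * (a * b) := fun h => hne _ (h.symm.trans h3)
    rw [if_neg n1, if_pos h2, if_neg n3, add_zero]
  · have h3 : a * b * e = e * (a * b) := by
      rw [mul_assoc, h2, ← mul_assoc, ← mul_assoc, h1, mul_assoc (e * a), hz b, ← mul_assoc,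
        mul_assoc (e * a * b), zC_sq, mul_one, mul_assoc]
    have n1 : ¬ a * e = e * a := fun h => hne _ (h.symm.trans h1)
    have n2 : ¬ b * e = e * b := fun h => hne _ (h.symm.trans h2)
    rw [if_neg n1, if_neg n2, if_pos h3, h11]

theorem psi_tab_checks :
    (∀ i, psiTab i = 0 → eqTab (qTab i) oneTab = true ∨ eqTab (qTab i) (tabOf id 8241104) = true) ∧
    (∀ i, eqTab (mulTab (qTab i) (qTab i)) oneTab = true ↔
      quadFormPlus 4 (ZMod 2) (psiTab i) = 0) ∧
    ∀ s, psiTab (baseIdx s) = Pi.single s 1 := by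
  decide +kernel

theorem psi_eq_zero {a : C1} (ha : a ∈ Co1Invol.kerBar) (h : psi a = 0) : a = 1 ∨ a = zC := by
  obtain ⟨i, rfl⟩ := mem_kerBar_iff.mp ha
  rw [psi_qC] at h
  rcases psi_tab_checks.1 i h with e | e
  · exact Or.inl ((qC_one_iff i).mpr e)
  · refine Or.inr ?_
    have h' : zC = Co1Invol.proj (Co1Invol.inclT invTKer.1) := rfl
    rw [h', qC, (mono_qT i).proj_eq_iff (b := Co1Invol.inclT invTKer.1) (B := tabOf id 8241104)]
    · exact e
    · show Mono (invTKer.1 : Co0) _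
      rw [coe_invTKer]; exact mono_invT

theorem sq_eq_one_iff {a : C1} (ha : a ∈ Co1Invol.kerBar) :
    a * a = 1 ↔ quadFormPlus 4 (ZMod 2) (psi a) = 0 := by
  obtain ⟨i, rfl⟩ := mem_kerBar_iff.mp ha
  rw [qC_sq_iff, psi_qC, psi_tab_checks.2.1]

theorem psi_eC (s : Fin 4 ⊕ Fin 4) : psi (eC s) = Pi.single s 1 :=
  (psi_qC _).trans (psi_tab_checks.2.2 s)

/-- The coordinates as a homomorphism. -/
noncomputable def psiHom : Additive ↥Co1Invol.kerBar →+ (Fin 4 ⊕ Fin 4 → ZMod 2) :=
  AddMonoidHom.mk' (fun a => psi (Additive.toMul a).1) fun a b =>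
    psi_mul (Additive.toMul a).2 (Additive.toMul b).2

theorem psi_surjective (v : Fin 4 ⊕ Fin 4 → ZMod 2) : ∃ a ∈ Co1Invol.kerBar, psi a = v := by
  have hv : v ∈ psiHom.range := by
    rw [show v = ∑ s, Pi.single s (v s) from (Finset.univ_sum_single v).symm]
    refine sum_mem fun s _ => ?_
    have hc : ∀ c : ZMod 2, c = 0 ∨ c = 1 := by decide
    rcases hc (v s) with h | h <;> rw [h]
    · rw [Pi.single_zero]; exact zero_mem _
    · exact ⟨Additive.ofMul ⟨eC s, qC_mem _⟩, psi_eC s⟩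
  obtain ⟨a, ha⟩ := hv
  exact ⟨(Additive.toMul a).1, (Additive.toMul a).2, ha⟩

/-- A preimage of a vector. -/
noncomputable def psiLift (v : Fin 4 ⊕ Fin 4 → ZMod 2) : C1 := Classical.choose (psi_surjective v)

theorem psiLift_mem (v : Fin 4 ⊕ Fin 4 → ZMod 2) : psiLift v ∈ Co1Invol.kerBar :=
  (Classical.choose_spec (psi_surjective v)).1

theorem psi_psiLift (v : Fin 4 ⊕ Fin 4 → ZMod 2) : psi (psiLift v) = v :=
  (Classical.choose_spec (psi_surjective v)).2

end Cfsg.Agent.LargeOut
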