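import Cfsg.Agent.LargeOut.Co1Rigid
import Cfsg.Agent.AutPSp.Main
import Cfsg.Agent.S2136

/-!
Automorphisms of the centraliser of the involution of `Co₂` are rigid on the extraspecial group.
-/

set_option autoImplicit false

namespace Cfsg.Agent.LargeOut

open Cfsg Cfsg.Agent.Golay Cfsg.Agent.Leech Cfsg.Agent.Co2Invol
open scoped Matrix

theorem zmod2_cases : ∀ y : ZMod 2, y = 0 ∨ y = 1 := by decide

/-- Every automorphism of `Sp(6, 2)` is inner. -/
theorem sp6_aut_inner (β : MulAut (Matrix.symplecticGroup (Fin 3) (ZMod 2))) :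
    ∃ s, ∀ x, β x = s * x * s⁻¹ := by
  have : Fact (Nat.Prime 2) := ⟨Nat.prime_two⟩
  have hbij : Function.Bijective
      (AutPSp.proj : Matrix.symplecticGroup (Fin 3) (ZMod 2) → Cfsg.PSp 3 (ZMod 2)) := by
    refine ⟨fun a b h => ?_, AutPSp.proj_surjective⟩
    have h' : a⁻¹ * b ∈ Subgroup.center (Matrix.symplecticGroup (Fin 3) (ZMod 2)) :=
      QuotientGroup.eq.mp h
    rw [center_sp_eq_bot, Subgroup.mem_bot] at h'
    exact inv_mul_eq_one.mp h'
  let e := MulEquiv.ofBijective (AutPSp.proj (m := 3) (F := ZMod 2)) hbij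
  obtain ⟨g, σ, hg⟩ := AutPSp.exists_decomp (m := 3) (F := ZMod 2) (by norm_num) (Or.inr le_rfl)
    ((e.symm.trans β).trans e)
  have hσ : σ = 1 := RingEquiv.ext fun x => by
    rcases zmod2_cases x with rfl | rfl <;> simp
  rw [hσ, map_one, mul_one] at hg
  obtain ⟨μ, hμ⟩ := AutPSp.mem_GSp_iff.mp g.2
  have hμ1 : (μ : ZMod 2) = 1 := by
    exact (zmod2_cases _).resolve_left μ.ne_zero
  let s : Matrix.symplecticGroup (Fin 3) (ZMod 2) :=
    ⟨_, Forms.mem_symplecticGroup_iff_sympForm.mpr fun a b => by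
      have := hμ a b
      rw [hμ1, one_mul, Forms.sympBil_apply, Forms.sympBil_apply] at this
      exact this⟩
  refine ⟨s, fun x => ?_⟩
  have h1 : e (β x) = e (AutPSp.spConj g x) := by
    have := DFunLike.congr_fun hg (e x)
    simp only [MulEquiv.trans_apply, MulEquiv.symm_apply_apply] at this
    exact this
  rw [e.injective h1, eq_mul_inv_iff_mul_eq]
  apply Subtype.ext
  show (AutPSp.spConj g x).1 * (g.1 : Matrix (Fin 3 ⊕ Fin 3) (Fin 3 ⊕ Fin 3) (ZMod 2)) = _ * x.1
  rw [AutPSp.spConj_coe, mul_assoc, ← Units.val_mul, inv_mul_cancel, Units.val_one, mul_one]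

/-- The centraliser inside the one in `Co₁`. -/
noncomputable def iota : cent →* C1 := Co1Invol.proj.comp Co1Invol.inclT

theorem iota_mem (q : rho.ker) : iota q.1 ∈ Co1Invol.kerBar :=
  Co1Invol.qHom_range ▸ ⟨q, rfl⟩

theorem exists_ker_psi (v : Fin 4 ⊕ Fin 4 → ZMod 2) : ∃ q : rho.ker, psi (iota q.1) = v := by
  have h := psiLift_mem v
  rw [← Co1Invol.qHom_range] at h
  obtain ⟨q, hq⟩ := h
  exact ⟨q, (congrArg psi hq).trans (psi_psiLift v)⟩

/-- A preimage of a vector. -/
noncomputable def kerLift (v : Fin 4 ⊕ Fin 4 → ZMod 2) : rho.ker := _root_.Classical.choose (exists_ker_psi v)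

theorem psi_kerLift (v : Fin 4 ⊕ Fin 4 → ZMod 2) : psi (iota (kerLift v).1) = v :=
  _root_.Classical.choose_spec (exists_ker_psi v)

theorem cases_of_psi {q : rho.ker} (h : psi (iota q.1) = 0) : q = 1 ∨ q = invTKer := by
  rcases psi_eq_zero (iota_mem q) h with e | e
  · exact Or.inl (Co1Invol.qHom_injective (e.trans (map_one _).symm))
  · exact Or.inr (Co1Invol.qHom_injective (e.trans qHom_invTKer.symm))

theorem preserved_ker (b : MulAut cent) (q : rho.ker) : b q.1 ∈ rho.ker := by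
  have h : b q.1 ∈ Cfsg.pCore 2 cent := by
    rw [← Cores.map_pCore_equiv b]
    exact ⟨q.1, pCore_cent.symm ▸ q.2, rfl⟩
  rw [pCore_cent] at h
  exact h

/-- The map on the kernel. -/
noncomputable def kerMap (b : MulAut cent) (q : rho.ker) : rho.ker := ⟨b q.1, preserved_ker b q⟩

theorem psi_kerMul (a c : rho.ker) : psi (iota (a * c).1) = psi (iota a.1) + psi (iota c.1) := by
  rw [Subgroup.coe_mul, map_mul, psi_mul (iota_mem a) (iota_mem c)]

theorem kerMap_mul (b : MulAut cent) (a c : rho.ker) :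
    kerMap b (a * c) = kerMap b a * kerMap b c := Subtype.ext (map_mul b a.1 c.1)

theorem psi_map_invT (b : MulAut cent) : psi (iota (kerMap b invTKer).1) = 0 := by
  funext s
  refine if_pos ?_
  obtain ⟨q, hq⟩ : ∃ q : rho.ker, Co1Invol.qHom q = eC (Co1Invol.flip8 s) :=
    ⟨qel (baseIdx (Co1Invol.flip8 s)), rfl⟩
  obtain ⟨w, hw⟩ := b.surjective q.1
  rw [← hq, show Co1Invol.qHom q = iota q.1 from rfl, ← hw,
    show (kerMap b invTKer).1 = b invTKer.1 from rfl, ← map_mul, ← map_mul, ← map_mul, ← map_mul,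
    show w * invTKer.1 = invTKer.1 * w from Subtype.ext (mem_cent.mp w.2).1]

theorem psi_kerCongr (b : MulAut cent) (a : rho.ker) :
    psi (iota (kerMap b (kerLift (psi (iota a.1)))).1) = psi (iota (kerMap b a).1) := by
  obtain ⟨c, hc⟩ : ∃ c, c = kerLift (psi (iota a.1)) := ⟨_, rfl⟩
  have h := psi_kerMul c (c⁻¹ * a)
  rw [mul_inv_cancel_left, hc, psi_kerLift] at h
  rw [← hc] at h ⊢
  have e := psi_kerMul (kerMap b c) (kerMap b (c⁻¹ * a))
  rw [← kerMap_mul, mul_inv_cancel_left] at e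
  rw [e]
  rcases cases_of_psi (left_eq_add.mp h) with h1 | h1 <;> rw [h1]
  · rw [show kerMap b 1 = 1 from Subtype.ext (map_one b)]
    simp [psi_one]
  · rw [psi_map_invT, add_zero]

/-- The induced linear map. -/
noncomputable def kerLin (b : MulAut cent) :
    (Fin 4 ⊕ Fin 4 → ZMod 2) →ₗ[ZMod 2] (Fin 4 ⊕ Fin 4 → ZMod 2) :=
  AddMonoidHom.toZModLinearMap 2
    (AddMonoidHom.mk' (fun v => psi (iota (kerMap b (kerLift v)).1)) fun v w => by
      have h := psi_kerCongr b (kerLift v * kerLift w)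
      rw [psi_kerMul, psi_kerLift, psi_kerLift, kerMap_mul, psi_kerMul] at h
      exact h)

theorem kerLin_psi (b : MulAut cent) (a : rho.ker) :
    kerLin b (psi (iota a.1)) = psi (iota (kerMap b a).1) := psi_kerCongr b a

theorem kerLin_one (v : Fin 4 ⊕ Fin 4 → ZMod 2) : kerLin 1 v = v := psi_kerLift v

theorem kerLin_mul (b d : MulAut cent) (v : Fin 4 ⊕ Fin 4 → ZMod 2) :
    kerLin (b * d) v = kerLin b (kerLin d v) := by
  rw [← psi_kerLift v, kerLin_psi, kerLin_psi, kerLin_psi]
  rfl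

/-- The matrix representation. -/
noncomputable def kerMat : MulAut cent →* Matrix (Fin 4 ⊕ Fin 4) (Fin 4 ⊕ Fin 4) (ZMod 2) where
  toFun b := LinearMap.toMatrix' (kerLin b)
  map_one' := Matrix.ext_of_mulVec_single fun s => by
    rw [LinearMap.toMatrix'_mulVec, kerLin_one, Matrix.one_mulVec]
  map_mul' b d := Matrix.ext_of_mulVec_single fun s => by
    rw [LinearMap.toMatrix'_mulVec, ← Matrix.mulVec_mulVec, LinearMap.toMatrix'_mulVec,
      LinearMap.toMatrix'_mulVec, kerLin_mul]

/-- The automorphisms acting on the quotient. -/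
noncomputable def theta2 : MulAut cent →* Matrix.GeneralLinearGroup (Fin 4 ⊕ Fin 4) (ZMod 2) :=
  MonoidHom.toHomUnits kerMat

theorem theta2_psi (b : MulAut cent) (a : rho.ker) :
    (theta2 b).1 *ᵥ psi (iota a.1) = psi (iota (kerMap b a).1) :=
  (LinearMap.toMatrix'_mulVec _ _).trans (kerLin_psi b a)

/-- The action by conjugation. -/
noncomputable def sigma : cent →* Matrix.GeneralLinearGroup (Fin 4 ⊕ Fin 4) (ZMod 2) :=
  Co1Invol.OPlus.subtype.comp (rhoQ.comp iota)

theorem sigma_psi (c : cent) (a : rho.ker) :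
    (sigma c).1 *ᵥ psi (iota a.1) = psi (iota c * iota a.1 * (iota c)⁻¹) :=
  rhoQ_psi (iota c) (iota_mem a)

theorem theta2_conj (c : cent) : theta2 (MulAut.conj c) = sigma c := by
  refine Units.ext (Matrix.ext_of_mulVec_single fun s => ?_)
  rw [← psi_kerLift (Pi.single s 1), theta2_psi, sigma_psi]
  show psi (iota (c * (kerLift (Pi.single s 1)).1 * c⁻¹)) = _
  rw [map_mul, map_mul, map_inv]

theorem sigma_eq_of_rho {c d : cent} (h : rho c = rho d) : sigma c = sigma d := by
  have hk : d⁻¹ * c ∈ rho.ker := by rw [MonoidHom.mem_ker, map_mul, map_inv, h, inv_mul_cancel]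
  have h1 : rhoQ (iota (d⁻¹ * c)) = 1 := kerBar_le_ker (iota_mem ⟨_, hk⟩)
  rw [← mul_inv_cancel_left d c, map_mul, show sigma (d⁻¹ * c) = 1 from congrArg Subtype.val h1,
    mul_one]

/-! ### The witnesses -/

/-- Six words. -/
def witWord : Fin 6 → List ℕ :=
  ![[2846], [1428], [2, 176, 56, 56, 105, 83, 105, 163], [0, 1, 1, 2, 56, 49, 7, 135, 56, 56, 105, 83], [56, 91, 56, 83, 83, 83], [250]]

/-- The columns of their matrices. -/
def witBits : Fin 6 → List ℕ :=
  ![[1, 130, 4, 40, 16, 32, 64, 128], [161, 210, 36, 56, 16, 32, 64, 128], [13, 4, 3, 15, 48, 192, 144, 176], [6, 12, 3, 7, 48, 131, 235, 243], [6, 1, 15, 5, 160, 240, 128, 96], [129, 130, 132, 120, 16, 32, 64, 128]]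

/-- The indices of the conjugates of the basis. -/
def witConj : Fin 6 → List (Fin 16 × Fin 32) :=
  ![[(1, 31), (2, 15), (3, 31), (4, 14), (0, 13), (0, 14), (0, 8), (0, 15)], [(1, 1), (2, 21), (3, 14), (4, 3), (0, 13), (0, 14), (0, 8), (0, 15)], [(13, 0), (3, 0), (5, 0), (15, 0), (0, 3), (0, 7), (0, 2), (0, 12)], [(8, 0), (10, 0), (5, 0), (11, 0), (0, 3), (5, 16), (12, 9), (5, 4)], [(8, 0), (1, 0), (15, 0), (6, 0), (0, 30), (0, 4), (0, 15), (0, 6)], [(1, 16), (2, 16), (3, 16), (4, 11), (0, 13), (0, 14), (0, 8), (0, 15)]]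

/-- A table acting on a vector. -/
def tabAct (A : MTab) (x : GolayPt → ℤ) : GolayPt → ℤ :=
  fun p => sgn (entry A (ptIdx p)).2 (x (ptOf (entry A (ptIdx p)).1))

theorem witWord_cent : ∀ i : Fin 6,
    eqB Spor.vecU (word3 (witWord i) Spor.vecU) = true ∧
    (genVecs.all fun v => eqB (word3 (witWord i) (flipMask 8241104 v))
      (flipMask 8241104 (word3 (witWord i) v))) = true := by
  decide +kernel

theorem witWord_conj : ∀ i : Fin 6, ∀ s,
    psiTab ((witConj i).getD (coord8 s) (0, 0)) = (fun r => bitsMat (witBits i) r s) ∧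
    ((genVecs.all fun v => eqB (word3 (witWord i) (tabAct (qTab (baseIdx s)) v))
        (tabAct (qTab ((witConj i).getD (coord8 s) (0, 0))) (word3 (witWord i) v))) = true ∨
      (genVecs.all fun v => eqB (word3 (witWord i) (tabAct (qTab (baseIdx s)) v))
        (tabAct (negTab (qTab ((witConj i).getD (coord8 s) (0, 0)))) (word3 (witWord i) v))) = true) := by
  decide +kernel

theorem exists_witElem (i : Fin 6) : ∃ c : cent, (sigma c).1 = bitsMat (witBits i) := by
  obtain ⟨g, hg⟩ := exists_word (witWord i)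
  obtain ⟨hu, hc⟩ := witWord_cent i
  have hmem : g ∈ cent := by
    rw [mem_cent]
    refine ⟨co0_eq_of_genVecs fun x hx => ?_, Subtype.ext ((hg _).trans (eq_of_eqB hu))⟩
    rw [List.all_eq_true] at hc
    rw [mul_smul, mul_smul, hg, invT_smul, invT_smul, hg, signSet_mask, flipOn_bitSet, flipOn_bitSet]
    exact (eq_of_eqB (hc _ hx)).symm
  obtain ⟨c, hc'⟩ : ∃ c : cent, c = ⟨g, hmem⟩ := ⟨_, rfl⟩
  refine ⟨c, Matrix.ext_of_mulVec_single fun s => ?_⟩
  obtain ⟨hbits, hconj⟩ := witWord_conj i s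
  have hkey : iota c * eC s * (iota c)⁻¹ = qC ((witConj i).getD (coord8 s) (0, 0)) := by
    rw [mul_inv_eq_iff_eq_mul]
    show Co1Invol.proj (Co1Invol.inclT c) * Co1Invol.proj (qT _) = Co1Invol.proj (qT _) * Co1Invol.proj (Co1Invol.inclT c)
    rw [← map_mul, ← map_mul, Co1Invol.proj_eq_iff]
    have hcg : ((Co1Invol.inclT c : Co1Invol.centT) : Co0) = g := by rw [hc']; rfl
    have hq : ∀ (j : Fin 16 × Fin 32) (y : leechLattice),
        ((qT j : Co0) • y).1 = tabAct (qTab j) y.1 := fun j y => funext fun p => (mono_qT j).act y p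
    have hn : ∀ (j : Fin 16 × Fin 32) (y : leechLattice),
        (((qT j : Co0) * negCo0) • y).1 = tabAct (negTab (qTab j)) y.1 := fun j y =>
      funext fun p => (mono_neg (mono_qT j)).act y p
    rcases hconj with h | h <;> rw [List.all_eq_true] at h
    · left
      refine co0_eq_of_genVecs fun x hx => ?_
      simp only [Subgroup.coe_mul, hcg, mul_smul, hg, hq]
      exact (eq_of_eqB (h _ hx)).symm
    · right
      have hcomm : (g : Co0) * negCo0 = negCo0 * g :=
        Subgroup.mem_center_iff.mp ((Leech.center_eq _).mpr (Or.inr rfl)) g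
      refine co0_eq_of_genVecs fun x hx => ?_
      simp only [Subgroup.coe_mul, hcg]
      rw [mul_assoc (qT _ : Co0) g negCo0, hcomm, ← mul_assoc, mul_smul, mul_smul, hn, hg, hg, hq]
      exact (eq_of_eqB (h _ hx)).symm
  have hs := rhoQ_psi (iota c) (a := eC s) (qC_mem (baseIdx s))
  rw [hkey, psi_eC, psi_qC, hbits] at hs
  refine hs.trans ?_
  rw [Matrix.mulVec_single_one]
  rfl

/-- Paths from the fixed vector to a basis. -/
def orbitPath : Fin 8 → List (Fin 6) :=
  ![[], [3], [4], [0, 3], [2, 3], [3, 3], [4, 3], [5, 3]]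

/-- The basis reached. -/
def orbitBits : List ℕ := [224, 155, 16, 59, 134, 206, 194, 235]

/-- The inverse of that basis. -/
def orbitInv : List ℕ := [118, 204, 91, 59, 4, 141, 11, 135]

theorem fix_checks :
    (∀ v, v ≠ 0 → (∀ i : Fin 6, i.val < 3 → bitsMat (witBits i) *ᵥ v = v) → v = Co1Invol.bitVec8 224) ∧
    (∀ i : Fin 6, i.val < 3 → bitsMat (witBits i) *ᵥ Co1Invol.bitVec8 224 = Co1Invol.bitVec8 224) ∧
    Co1Invol.bitVec8 224 ≠ 0 ∧
    (∀ j, (orbitPath j).foldr (fun i w => bitsMat (witBits i) *ᵥ w) (Co1Invol.bitVec8 224) =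
      Co1Invol.bitVec8 (orbitBits.getD j.val 0)) ∧
    bitsMat orbitBits * bitsMat orbitInv = 1 := by
  decide +kernel

theorem eq_one_of_commute (M : Matrix.GeneralLinearGroup (Fin 4 ⊕ Fin 4) (ZMod 2))
    (hM : ∀ c, M * sigma c = sigma c * M) : M = 1 := by
  obtain ⟨huniq, hfix, hne, hpath, hinv⟩ := fix_checks
  have hcomm : ∀ i w, M.1 *ᵥ (bitsMat (witBits i) *ᵥ w) = bitsMat (witBits i) *ᵥ (M.1 *ᵥ w) := by
    intro i w
    obtain ⟨c, hc⟩ := exists_witElem i
    rw [← hc, Matrix.mulVec_mulVec, Matrix.mulVec_mulVec, ← Units.val_mul, hM c, Units.val_mul]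
  have h0 : M.1 *ᵥ Co1Invol.bitVec8 224 = Co1Invol.bitVec8 224 := by
    refine huniq _ (fun h => hne ?_) fun i hi => ?_
    · have := congrArg (fun w => (M⁻¹).1 *ᵥ w) h
      simpa [Matrix.mulVec_mulVec] using this
    · rw [← hcomm, hfix i hi]
  have hall : ∀ L : List (Fin 6),
      M.1 *ᵥ L.foldr (fun i w => bitsMat (witBits i) *ᵥ w) (Co1Invol.bitVec8 224) =
        L.foldr (fun i w => bitsMat (witBits i) *ᵥ w) (Co1Invol.bitVec8 224) := by
    intro L
    induction L with
    | nil => exact h0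
    | cons i L ih => rw [List.foldr_cons, hcomm, ih]
  have hB : M.1 * bitsMat orbitBits = bitsMat orbitBits := by
    refine Matrix.ext_of_mulVec_single fun s => ?_
    rw [← Matrix.mulVec_mulVec, Matrix.mulVec_single_one]
    have hs : coord8 s < 8 := by rcases s with i | i <;> simp [coord8] <;> omega
    have := hall (orbitPath ⟨coord8 s, hs⟩)
    rw [hpath] at this
    exact this
  have := congrArg (· * bitsMat orbitInv) hB
  simp only [mul_assoc, hinv, mul_one] at this
  exact Units.ext this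

theorem rigid_cent (b : MulAut cent) : ∃ a : cent, ∀ q : rho.ker,
    (a * q.1 * a⁻¹)⁻¹ * b q.1 = 1 ∨ (a * q.1 * a⁻¹)⁻¹ * b q.1 = invTKer.1 := by
  have hle : rho.ker ≤ (rho.comp b.toMonoidHom).ker := fun c hc =>
    MonoidHom.mem_ker.mp (preserved_ker b ⟨c, hc⟩)
  let bb : Matrix.symplecticGroup (Fin 3) (ZMod 2) →* Matrix.symplecticGroup (Fin 3) (ZMod 2) :=
    rho.liftOfSurjective rho_surjective ⟨rho.comp b.toMonoidHom, hle⟩
  have hbb : ∀ c, bb (rho c) = rho (b c) := fun c => rho.liftOfRightInverse_comp_apply _ _ _ c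
  have hbij : Function.Bijective bb := by
    refine (fun h => ⟨Finite.injective_iff_surjective.mpr h, h⟩) fun y => ?_
    obtain ⟨c, rfl⟩ := rho_surjective y
    exact ⟨rho (b.symm c), by rw [hbb, b.apply_symm_apply]⟩
  obtain ⟨s, hs⟩ := sp6_aut_inner (MulEquiv.ofBijective bb hbij)
  obtain ⟨a, rfl⟩ := rho_surjective s
  have hM : theta2 b = sigma a := by
    refine (inv_mul_eq_one.mp (eq_one_of_commute ((sigma a)⁻¹ * theta2 b) fun c => ?_)).symm
    have e1 : theta2 b * sigma c = sigma (b c) * theta2 b := by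
      rw [← theta2_conj, ← theta2_conj, ← map_mul, ← map_mul]
      congr 1
      refine MulEquiv.ext fun x => ?_
      show b (c * x * c⁻¹) = b c * b x * (b c)⁻¹
      rw [map_mul, map_mul, map_inv]
    have e2 : sigma (b c) = sigma a * sigma c * (sigma a)⁻¹ := by
      rw [← map_inv, ← map_mul, ← map_mul]
      refine sigma_eq_of_rho ?_
      rw [← hbb, map_mul, map_mul, map_inv]
      exact hs (rho c)
    rw [mul_assoc, e1, e2]
    group
  refine ⟨a, fun q => ?_⟩
  have h := theta2_psi b q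
  rw [hM, sigma_psi, ← map_inv, ← map_mul, ← map_mul] at h
  have hn : a * q.1 * a⁻¹ ∈ rho.ker := (MonoidHom.normal_ker rho).conj_mem _ q.2 a
  have hd := psi_kerMul ⟨_, hn⟩ ((⟨_, hn⟩ : rho.ker)⁻¹ * kerMap b q)
  rw [mul_inv_cancel_left, ← h] at hd
  rcases cases_of_psi (left_eq_add.mp hd) with e | e
  · exact Or.inl (congrArg Subtype.val e)
  · exact Or.inr (congrArg Subtype.val e)

/-- The centraliser in `Co₂`. -/
abbrev C2 : Subgroup ↥Cfsg.Spor.Co2 := Subgroup.centralizer ({S2136.tCo2} : Set ↥Cfsg.Spor.Co2)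

/-- The extraspecial group inside it. -/
noncomputable def Q2 : Subgroup C2 := rho.ker.map S2136.centEquiv.toMonoidHom

theorem mem_Q2 {x : C2} : x ∈ Q2 ↔ S2136.centEquiv.symm x ∈ rho.ker :=
  Subgroup.mem_map_equiv

theorem Q2_eq_pCore : Q2 = Cfsg.pCore 2 C2 := by
  rw [Q2, ← pCore_cent]
  exact Cores.map_pCore_equiv S2136.centEquiv

theorem self_cent_ker {x : cent} (h : ∀ q : rho.ker, q.1 * x = x * q.1) : x ∈ rho.ker := by
  have hx : iota x ∈ Subgroup.centralizer (Co1Invol.kerBar : Set C1) := by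
    rw [Subgroup.mem_centralizer_iff]
    intro y hy
    rw [← Co1Invol.qHom_range] at hy
    obtain ⟨q, rfl⟩ := hy
    show iota q.1 * iota x = iota x * iota q.1
    rw [← map_mul, ← map_mul, h q]
  have hk := Co1Invol.centralizer_kerBar hx
  rw [← Co1Invol.qHom_range] at hk
  obtain ⟨q, hq⟩ := hk
  have hq' : Co1Invol.proj (Co1Invol.inclT q.1) = Co1Invol.proj (Co1Invol.inclT x) := hq
  rcases Co1Invol.proj_eq_iff.mp hq' with e | e
  · rw [← show q.1 = x from Subtype.ext e]; exact q.2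
  · exfalso
    have e' : ((q.1 : cent) : Co0) = (x : Co0) * negCo0 := e
    have h1 := (mem_cent.mp q.1.2).2
    rw [e', mul_smul, negCo0_smul, co0_neg, (mem_cent.mp x.2).2] at h1
    have h2 := congrArg (fun y : leechLattice => y.1 none) h1
    simp [Spor.leechU, Spor.vecU] at h2

theorem co2_data : Data S2136.tCo2 Q2 where
  normal := (MonoidHom.normal_ker rho).map _ S2136.centEquiv.surjective
  extra := by
    have : Finite ↥rho.ker := Nat.finite_of_card_ne_zero (by rw [card_ker]; norm_num)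
    exact LargeExtra.isExtraspecial_map_equiv isExtraspecial_ker
      (rho.ker.equivMapOfInjective _ S2136.centEquiv.injective)
  self_cent := by
    intro x hx
    rw [mem_Q2]
    refine self_cent_ker fun q => S2136.centEquiv.injective ?_
    rw [map_mul, map_mul, MulEquiv.apply_symm_apply]
    exact Subgroup.mem_centralizer_iff.mp hx _ ⟨q.1, q.2, rfl⟩
  mem_z := ⟨invTKer.1, invTKer.2, rfl⟩
  ne_one := fun h => invT_ne_one (Subtype.ext (congrArg (fun a : ↥Cfsg.Spor.Co2 => a.1) h))
  preserved := fun β q hq => by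
    rw [Q2_eq_pCore] at hq ⊢
    rw [← Cores.map_pCore_equiv β]
    exact ⟨q, hq, rfl⟩
  perfect := by
    have := isSimpleGroup_sp
    intro x
    obtain ⟨c, rfl⟩ := S2136.centEquiv.surjective x
    have hn : (commutator cent).Normal := inferInstance
    have h : rho c ∈ (commutator cent).map rho := by
      rw [commutator_def, Subgroup.map_commutator, Subgroup.map_top_of_surjective _ rho_surjective,
        ← commutator_def]
      rcases (inferInstance : (commutator (Matrix.symplecticGroup (Fin 3) (ZMod 2))).Normal).eq_bot_or_eq_top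
        with e | e
      · exfalso
        rw [commutator_eq_bot_iff_center_eq_top, center_sp_eq_bot] at e
        exact bot_ne_top e
      · rw [e]; exact Subgroup.mem_top _
    obtain ⟨k, hk, hkx⟩ := h
    have hq : k⁻¹ * c ∈ rho.ker := by
      rw [MonoidHom.mem_ker, map_mul, map_inv, hkx, inv_mul_cancel]
    have hk' : S2136.centEquiv k ∈ commutator C2 := by
      have := Subgroup.map_commutator (⊤ : Subgroup cent) ⊤ S2136.centEquiv.toMonoidHom
      rw [Subgroup.map_top_of_surjective _ S2136.centEquiv.surjective, ← commutator_def,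
        ← commutator_def] at this
      exact this ▸ ⟨k, hk, rfl⟩
    have h1 := mul_mem ((le_sup_right : commutator C2 ≤ Q2 ⊔ _) hk')
      ((le_sup_left : Q2 ≤ _ ⊔ commutator C2) ⟨_, hq, rfl⟩)
    rwa [show S2136.centEquiv.toMonoidHom (k⁻¹ * c) = S2136.centEquiv (k⁻¹ * c) from rfl, ← map_mul,
      mul_inv_cancel_left] at h1
  rigid := by
    intro β
    obtain ⟨a, ha⟩ := rigid_cent ((S2136.centEquiv.trans β).trans S2136.centEquiv.symm)
    refine ⟨S2136.centEquiv a, fun q hq => ?_⟩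
    rcases ha ⟨_, mem_Q2.mp hq⟩ with e | e <;>
      have e' := congrArg (fun y : cent => ((S2136.centEquiv y) : C2)) e <;>
      simp only [map_mul, map_inv, MulEquiv.trans_apply, MulEquiv.apply_symm_apply] at e'
    · exact Or.inl (congrArg (fun y : C2 => (y : ↥Cfsg.Spor.Co2)) (e'.trans (map_one _)))
    · exact Or.inr (congrArg (fun y : C2 => (y : ↥Cfsg.Spor.Co2)) e')

end Cfsg.Agent.LargeOut
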