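import Cfsg.Agent.LargeOut.Co2Gen
import Cfsg.Agent.LargeOut.Co2Rigid

/-!
An automorphism of `Co₂` fixing the centraliser of the involution is inner.
-/

set_option autoImplicit false

namespace Cfsg.Agent.LargeOut

open Cfsg Cfsg.Agent.Golay Cfsg.Agent.Leech Cfsg.Agent.Co2Invol
open scoped Pointwise

/-- Code indices separating the coordinates. -/
def sepCodes : List ℕ := [4048, 2, 8, 20, 36, 68, 128, 256, 512, 1028, 2052]

/-- Words fixing both octads. -/
def hWords : List (List ℕ) := [[91, 118, 176, 147, 135, 105, 105, 191, 135, 91, 118, 176, 147, 135, 105, 105, 191, 135], [105, 105, 191, 135, 176, 105, 105, 176, 191, 105, 105, 191, 135]]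

/-- The table of a code word. -/
def fTab (k : ℕ) : MTab := tabOf id (Golay.enc k)

/-- The table of the further element. -/
def mTab : MTab := wordTab (co2Word 6)

/-- A table centralising the involution and fixing the vector. -/
def InC (A : MTab) : Prop :=
  mulTab A (tabOf id 8241104) = mulTab (tabOf id 8241104) A ∧ tabAct A Spor.vecU = Spor.vecU

instance decInC (A : MTab) : Decidable (InC A) := by unfold InC; infer_instance

theorem flip_checks :
    (∀ k ∈ sepCodes, InC (fTab k) ∧ InC (mulTab (mulTab mTab (fTab k)) mTab)) ∧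
    powTab 2 mTab = oneTab ∧ fTab 4048 = tabOf id 8241104 ∧ 4048 ∈ sepCodes ∧
    (∀ p j : GolayPt, j ≠ none → j ≠ some 0 →
      (∀ k ∈ sepCodes, (Golay.enc k).testBit (ptIdx p) = (Golay.enc k).testBit (ptIdx j)) → p = j) ∧
    (∀ p : GolayPt,
      (∀ k ∈ sepCodes, (Golay.enc k).testBit (ptIdx p) = false) → p = none ∨ p = some 0) ∧
    (∀ k ∈ sepCodes, (Golay.enc k).testBit (ptIdx none) = false) ∧
    none ∈ bitSet (Golay.enc 4) ∧ some 0 ∉ bitSet (Golay.enc 4) ∧
    (bitSet (Golay.enc 4)).card = 8 := by
  decide +kernel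

theorem h_checks : ∀ w ∈ hWords, 0 ∉ w ∧ InC (wordTab w) ∧ InC (mulTab (mulTab mTab (wordTab w)) mTab) := by
  decide +kernel

theorem fixed_checks :
    mulTab (mulTab (tabOf id 8241104) mTab) (tabOf id 8241104) = mulTab mTab (fTab 1058) ∧
    check4096 (fun k =>
      (Golay.enc k).testBit 23 || (Golay.enc k).testBit 0 ||
      !(hWords.all fun w => mulTab (fTab k) (wordTab w) == mulTab (wordTab w) (fTab k)) ||
      !(powTab 2 (mulTab mTab (fTab k)) == oneTab) ||
      (fTab k == oneTab || fTab k == fTab 1058)) = true := by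
  decide +kernel

/-- The embedding of `Co₂` in `Co₀`. -/
def toZero : ↥Cfsg.Spor.Co2 →* Co0 where
  toFun x := ⟨x.1, x.2.1⟩
  map_one' := rfl
  map_mul' _ _ := rfl

theorem toZero_injective : Function.Injective toZero := fun a b h =>
  Subtype.ext (congrArg (fun g : Co0 => g.1) h)

theorem toZero_smul (x : ↥Cfsg.Spor.Co2) : toZero x • Spor.leechU = Spor.leechU := x.2.2

theorem exists_toZero {g : Co0} (h : g • Spor.leechU = Spor.leechU) :
    ∃ x : ↥Cfsg.Spor.Co2, toZero x = g :=
  ⟨⟨g.1, g.2, h⟩, rfl⟩

theorem toZero_mem_co2 (x : ↥Cfsg.Spor.Co2) : toZero x ∈ co2 := by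
  rw [mem_co2, pU_eq]; exact toZero_smul x

theorem toZero_tCo2 : toZero S2136.tCo2 = invT := rfl

theorem mem_C2_iff {x : ↥Cfsg.Spor.Co2} : x ∈ C2 ↔ toZero x * invT = invT * toZero x := by
  rw [Subgroup.mem_centralizer_singleton_iff, ← toZero_tCo2, ← map_mul, ← map_mul,
    toZero_injective.eq_iff]

theorem exists_of_inC {g : Co0} {A : MTab} (hg : Mono g A) (h : InC A) :
    ∃ x : ↥Cfsg.Spor.Co2, x ∈ C2 ∧ toZero x = g := by
  obtain ⟨x, hx⟩ := exists_toZero (g := g) (Subtype.ext ((funext fun p => hg.act Spor.leechU p).trans h.2))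
  refine ⟨x, mem_C2_iff.mpr ?_, hx⟩
  rw [hx, (hg.mul mono_invT).eq_iff (mono_invT.mul hg)]
  exact h.1

theorem exists_fTab (k : ℕ) : ∃ g : Co0, Mono g (fTab k) ∧
    ∀ x : leechLattice, (g • x).1 = flipOn (bitSet (Golay.enc k)) x.1 := by
  refine ⟨monomial (one_mem M24) (bitSet_enc_supports k), ?_, fun x => monomial_smul _ _ x⟩
  refine mono_tabOf fun x p => ?_
  rw [monomial_smul, flipOn_bitSet]
  simp only [flipMask, sgn, id_eq, Function.comp_apply, Equiv.Perm.coe_one]

theorem cross_zero_vals : dotInt (Leech.cross none) Spor.vecU = 32 ∧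
    dotInt (Leech.cross (some 0)) Spor.vecU = 32 := by decide +kernel

theorem eq_code_of_commute {e : Co0} (hU : e • Spor.leechU = Spor.leechU)
    (hcomm : ∀ k ∈ sepCodes, ∀ g : Co0, Mono g (fTab k) → g * e = e * g) :
    ∃ k < 4096, (Golay.enc k).testBit 23 = false ∧ (Golay.enc k).testBit 0 = false ∧
      Mono e (fTab k) := by
  obtain ⟨-, -, -, -, hsep, hsep0, hnone, ho1, ho2, ho3⟩ := flip_checks
  have hflip : ∀ k ∈ sepCodes, ∀ j p : GolayPt, ((e • crossL j).1 p) ≠ 0 →
      (Golay.enc k).testBit (ptIdx p) = (Golay.enc k).testBit (ptIdx j) := by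
    intro k hk j p hp
    obtain ⟨g, hg, hgs⟩ := exists_fTab k
    have h := congrArg (fun a : Co0 => (a • crossL j).1 p) (hcomm k hk g hg)
    have hgj : g • crossL j = if (Golay.enc k).testBit (ptIdx j) then -crossL j else crossL j := by
      refine Subtype.ext ((hgs _).trans ?_)
      funext q
      split_ifs with hb <;> simp only [flipOn, mem_bitSet, AddSubgroup.coe_neg, Pi.neg_apply, crossL, Leech.cross]
      · by_cases hq : q = j
        · subst hq; simp [hb]
        · simp [hq]
      · by_cases hq : q = j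
        · subst hq; simp [hb]
        · simp [hq]
    simp only [mul_smul, hgj, hgs] at h
    revert h
    cases hb : (Golay.enc k).testBit (ptIdx j) <;>
      cases hc : (Golay.enc k).testBit (ptIdx p) <;>
      simp only [flipOn, mem_bitSet, hc, if_true, if_false, Bool.false_eq_true, co0_neg,
        AddSubgroup.coe_neg, Pi.neg_apply] <;> intro h <;> omega
  have hN : ∀ j, sqNorm (e • crossL j).1 = 64 := fun j => (e.2.2 _).trans (sqNorm_cross j)
  have hj : ∀ j, j ≠ none → j ≠ some 0 →
      (e • crossL j).1 = Leech.cross j ∨ (e • crossL j).1 = -Leech.cross j := by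
    intro j h1 h2
    have hz : ∀ p, p ≠ j → (e • crossL j).1 p = 0 := fun p hp => by
      by_contra hne
      exact hp (hsep p j h1 h2 fun k hk => hflip k hk j p hne)
    have h := hN j
    rw [sqNorm, Fintype.sum_eq_single j (fun p hp => by rw [hz p hp]; ring)] at h
    rw [pow_two] at h
    rcases mul_self_eq_mul_self_iff.mp (h.trans (by norm_num : (64 : ℤ) = 8 * 8)) with h8 | h8
    · left; funext p
      by_cases hp : p = j
      · subst hp; simpa [Leech.cross] using h8
      · simp [Leech.cross, hp, hz p hp]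
    · right; funext p
      by_cases hp : p = j
      · subst hp; simpa [Leech.cross] using h8
      · simp [Leech.cross, hp, hz p hp]
  have h0 : (e • crossL none).1 = Leech.cross none ∨ (e • crossL none).1 = Leech.cross (some 0) := by
    have hz : ∀ p, p ≠ none → p ≠ some 0 → (e • crossL none).1 p = 0 := fun p h1 h2 => by
      by_contra hne
      rcases hsep0 p (fun k hk => (hflip k hk none p hne).trans (hnone k hk)) with h | h
      · exact h1 h
      · exact h2 h
    have hn := hN none
    rw [sqNorm, Fintype.sum_eq_add none (some 0) (by simp)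
      (fun p hp => by rw [hz p hp.1 hp.2]; ring)] at hn
    have hd := co0_dotInt e (crossL none) Spor.leechU
    rw [hU, show Spor.leechU.1 = Spor.vecU from rfl, show (crossL none).1 = Leech.cross none from rfl,
      cross_zero_vals.1] at hd
    rw [dotInt, Fintype.sum_eq_add none (some 0) (by simp)
      (fun p hp => by rw [hz p hp.1 hp.2, zero_mul])] at hd
    have hu : Spor.vecU none = 4 ∧ Spor.vecU (some 0) = 4 := by decide +kernel
    rw [hu.1, hu.2] at hd
    have hprod : (e • crossL none).1 none * (e • crossL none).1 (some 0) = 0 := by nlinarith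
    rcases mul_eq_zero.mp hprod with h | h
    · right; funext p
      by_cases hp : p = some 0
      · subst hp; simp [Leech.cross]; omega
      · by_cases hp' : p = none
        · subst hp'; simp [Leech.cross, h]
        · simp [Leech.cross, hp, hz p hp' hp]
    · left; funext p
      by_cases hp : p = none
      · subst hp; simp [Leech.cross]; omega
      · by_cases hp' : p = some 0
        · subst hp'; simp [Leech.cross, h]
        · simp [Leech.cross, hp, hz p hp hp']
  obtain ⟨σ, hσ, c, hc, rfl⟩ := exists_monomial_of_preservesCross (g := e) (preservesCross_iff.mpr (by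
    rcases h0 with h | h
    · exact ⟨none, Or.inl h⟩
    · exact ⟨some 0, Or.inl h⟩))
  have hmov : ∀ j, j ≠ none → j ≠ some 0 → σ j = j := by
    intro j h1 h2
    by_contra hne
    have hv : (monomial hσ hc • crossL j).1 j = 0 := by
      rw [monomial_smul]
      simp [flipOn, crossL, Leech.cross, hne]
    rcases hj j h1 h2 with h | h <;> rw [h] at hv <;> simp [Leech.cross] at hv
  have hσn : σ none = none := by
    by_contra hne
    have hn0 : σ none = some 0 := by
      by_contra h
      exact hne (σ.injective (hmov (σ none) hne h))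
    set o := bitSet (Golay.enc 4)
    have ho : o ∈ octads := mem_octads_iff.mpr ⟨bitSet_enc_mem _, ho3⟩
    have hsub : o.erase none ⊆ σ • o ∩ o := by
      intro p hp
      obtain ⟨hp1, hp2⟩ := Finset.mem_erase.mp hp
      refine Finset.mem_inter.mpr ⟨?_, hp2⟩
      rw [← hmov p hp1 (fun h => ho2 (h ▸ hp2))]
      exact Finset.smul_mem_smul_finset hp2
    have heq := octad_eq_of_five (smul_mem_octads hσ ho) ho (by
      have := Finset.card_le_card hsub
      rw [Finset.card_erase_of_mem ho1, ho3] at this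
      omega)
    have : σ none ∈ σ • o := Finset.smul_mem_smul_finset ho1
    rw [heq, hn0] at this
    exact ho2 this
  have hσ1 : σ = 1 := Equiv.ext fun p => by
    by_cases h1 : p = none
    · subst h1; exact hσn
    by_cases h2 : p = some 0
    · subst h2
      by_contra hne
      have h0' : σ (some 0) ≠ none := fun h => h1 (σ.injective (h.trans hσn.symm))
      exact hne (σ.injective (hmov (σ (some 0)) h0' hne))
    exact hmov p h1 h2
  subst hσ1
  have hu := congrArg (fun x : leechLattice => x.1) hU
  simp only [monomial_smul] at hu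
  have hn1 : none ∉ c := fun h => by
    have := congrFun hu none
    simp [flipOn, h, Spor.leechU, Spor.vecU] at this
  have hn2 : some 0 ∉ c := fun h => by
    have := congrFun hu (some 0)
    simp [flipOn, h, Spor.leechU, Spor.vecU] at this
  obtain ⟨w, hw, rfl⟩ := hc
  obtain ⟨k, hk, rfl⟩ := (mem_golayCode_iff w).mp hw
  rw [← bitSet_eq] at hn1 hn2
  refine ⟨k, hk, ?_, ?_, mono_tabOf fun x p => ?_⟩
  · simpa [mem_bitSet, show ptIdx none = 23 from rfl] using hn1
  · simpa [mem_bitSet, show ptIdx (some 0) = 0 from rfl] using hn2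
  · refine (congrFun (monomial_smul hσ _ x) p).trans ?_
    rw [← bitSet_eq, flipOn_bitSet]
    simp only [flipMask, sgn, id_eq, Function.comp_apply, Equiv.Perm.coe_one]

theorem fix_inner (α : MulAut ↥Cfsg.Spor.Co2) (hα : ∀ x ∈ C2, α x = x) :
    ∃ g : ↥Cfsg.Spor.Co2, ∀ x, α x = g * x * g⁻¹ := by
  obtain ⟨hsepC, hm2, h4048, hmem, -⟩ := flip_checks
  obtain ⟨hzmz, hfix⟩ := fixed_checks
  have hMm : Mono mElt mTab := mono_wordAut torsion_checks.2.2.1
  obtain ⟨m, hm⟩ := exists_toZero (g := mElt) (by rw [← pU_eq]; exact mem_co2.mp mElt_mem)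
  have hmm : mElt * mElt = 1 := by
    rw [← pow_two]; exact ((hMm.pow 2).eq_iff mono_one).mpr hm2
  have hmsq : m * m = 1 := toZero_injective (by rw [map_mul, hm, hmm, map_one])
  obtain ⟨e, he⟩ : ∃ e, e = m⁻¹ * α m := ⟨_, rfl⟩
  have hame : α m = m * e := by rw [he, mul_inv_cancel_left]
  have hsq : m * e * (m * e) = 1 := by rw [← hame, ← map_mul, hmsq, map_one]
  have hcomm : ∀ {g : Co0} {A : MTab}, Mono g A → InC A → InC (mulTab (mulTab mTab A) mTab) →
      g * toZero e = toZero e * g := by
    intro g A hg hA hA'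
    obtain ⟨x, hx, rfl⟩ := exists_of_inC hg hA
    obtain ⟨y, hy, hy'⟩ := exists_of_inC ((hMm.mul hg).mul hMm) hA'
    have hyx : y = m * x * m := toZero_injective (by rw [hy', map_mul, map_mul, hm])
    have h := hα y hy
    rw [hyx, map_mul, map_mul, hα x hx, hame] at h
    have h2 : e * x = x * e := by
      have h3 : m * e * x * (m * e) * (m * e) = m * x * m * (m * e) := by rw [h]
      rw [mul_assoc (m * e * x), hsq, mul_one, mul_assoc (m * x) m, ← mul_assoc m m e, hmsq,
        one_mul, mul_assoc, mul_assoc] at h3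
      exact mul_left_cancel h3
    rw [← map_mul, ← map_mul, h2]
  obtain ⟨k, hk, hk23, hk0, hek⟩ := eq_code_of_commute (toZero_smul e)
    fun k hk g hg => hcomm hg (hsepC k hk).1 (hsepC k hk).2
  have hcases : fTab k = oneTab ∨ fTab k = fTab 1058 := by
    have h := of_check4096 hfix hk
    have h1 : (hWords.all fun w => mulTab (fTab k) (wordTab w) == mulTab (wordTab w) (fTab k)) = true := by
      rw [List.all_eq_true]
      intro w hw
      obtain ⟨hw0, hwC, hwC'⟩ := h_checks w hw
      rw [beq_iff_eq, ← (hek.mul (mono_wordAut hw0)).eq_iff ((mono_wordAut hw0).mul hek)]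
      exact (hcomm (mono_wordAut hw0) hwC hwC').symm
    have h2 : (powTab 2 (mulTab mTab (fTab k)) == oneTab) = true := by
      rw [beq_iff_eq, ← ((hMm.mul hek).pow 2).eq_iff mono_one, pow_two, ← hm, ← map_mul, ← map_mul,
        hsq, map_one]
    simpa [hk23, hk0, h1, h2, beq_iff_eq] using h
  obtain ⟨z, hzdef⟩ : ∃ z, z = S2136.tCo2 := ⟨_, rfl⟩
  have hz0 : toZero z = invT := by rw [hzdef]; rfl
  obtain ⟨u, huz, hum⟩ : ∃ u, (u = 1 ∨ u = z) ∧ α m = u * m * u⁻¹ := by
    rcases hcases with h | h
    · refine ⟨1, Or.inl rfl, ?_⟩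
      rw [hame, show e = 1 from toZero_injective
        (((h ▸ hek : Mono (toZero e) oneTab).eq_iff mono_one).mpr rfl |>.trans (map_one _).symm)]
      group
    · refine ⟨z, Or.inr rfl, toZero_injective ?_⟩
      rw [hame, map_mul, map_mul, map_mul, map_inv, hz0, hm, inv_eq_of_mul_eq_one_right invT_sq,
        ((hMm.mul hek).eq_iff ((mono_invT.mul hMm).mul mono_invT))]
      rw [h, hzmz]
  refine ⟨u, fun x => ?_⟩
  let K : Subgroup ↥Cfsg.Spor.Co2 :=
    { carrier := {y | α y = u * y * u⁻¹}
      one_mem' := by simp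
      mul_mem' := fun {a b} ha hb => by
        show α (a * b) = _
        rw [map_mul, ha, hb]; group
      inv_mem' := fun {a} ha => by
        show α a⁻¹ = _
        rw [map_inv, ha]; group }
  suffices hK : K = ⊤ by exact (hK ▸ Subgroup.mem_top x : x ∈ K)
  have hle : co2 ≤ K.map toZero := by
    rw [← co2_generated, sup_le_iff, Subgroup.zpowers_le]
    refine ⟨fun g hg => ?_, ⟨m, hum, hm⟩⟩
    obtain ⟨y, hy⟩ := exists_toZero (mem_cent.mp hg).2
    have hyC : y ∈ C2 := mem_C2_iff.mpr (by rw [hy]; exact (mem_cent.mp hg).1)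
    refine ⟨y, ?_, hy⟩
    show α y = u * y * u⁻¹
    rw [hα y hyC]
    rcases huz with rfl | rfl
    · group
    · rw [hzdef, ← Subgroup.mem_centralizer_singleton_iff.mp hyC, mul_inv_cancel_right]
  rw [eq_top_iff]
  intro y _
  obtain ⟨w, hw, hwy⟩ := hle (toZero_mem_co2 y)
  exact toZero_injective hwy ▸ hw

end Cfsg.Agent.LargeOut
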