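import Cfsg.Agent.Co1Invol.Quotient

/-!
A table calculus for monomial elements of `Co₀`: at each position the source position and a sign.
-/

set_option autoImplicit false

namespace Cfsg.Agent.LargeOut

open Cfsg Cfsg.Agent.Golay Cfsg.Agent.Leech Cfsg.Agent.Co2Invol

/-- A monomial table. -/
abbrev MTab : Type := List (ℕ × Bool)

/-- A signed value. -/
def sgn (b : Bool) (a : ℤ) : ℤ := if b then -a else a

theorem sgn_xor (b c : Bool) (a : ℤ) : sgn b (sgn c a) = sgn (b ^^ c) a := by
  cases b <;> cases c <;> simp [sgn]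

/-- The entry of a position. -/
def entry (A : MTab) (i : ℕ) : ℕ × Bool := A.getD i (0, false)

/-- The table of a permutation of the points and a mask. -/
def tabOf (f : GolayPt → GolayPt) (m : ℕ) : MTab :=
  (List.range 24).map fun i => (ptIdx (f (ptOf i)), m.testBit i)

/-- The identity table. -/
def oneTab : MTab := tabOf id 0

/-- The table of a product. -/
def mulTab (A B : MTab) : MTab :=
  A.map fun e => ((entry B e.1).1, e.2 ^^ (entry B e.1).2)

/-- The table of the negative. -/
def negTab (A : MTab) : MTab := A.map fun e => (e.1, !e.2)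

/-- Equality up to sign. -/
def eqTab (A B : MTab) : Bool := A == B || A == negTab B

/-- An element acts by a table. -/
structure Mono (g : Co0) (A : MTab) : Prop where
  len : A.length = 24
  lt : ∀ i < 24, (entry A i).1 < 24
  act : ∀ (x : leechLattice) (p : GolayPt),
    (g • x).1 p = sgn (entry A (ptIdx p)).2 (x.1 (ptOf (entry A (ptIdx p)).1))

theorem entry_map (A : MTab) (f : ℕ × Bool → ℕ × Bool) {i : ℕ} (h : i < A.length) :
    entry (A.map f) i = f (entry A i) := by
  simp [entry, List.getD_eq_getElem?_getD, h]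

theorem idx_ptOf : ∀ i < 24, ptIdx (ptOf i) = i := by decide +kernel

theorem entry_tabOf (f : GolayPt → GolayPt) (m : ℕ) {i : ℕ} (h : i < 24) :
    entry (tabOf f m) i = (ptIdx (f (ptOf i)), m.testBit i) := by
  simp [entry, tabOf, List.getD_eq_getElem?_getD, h]

theorem mono_tabOf {g : Co0} {f : GolayPt → GolayPt} {m : ℕ}
    (h : ∀ (x : leechLattice) (p : GolayPt), (g • x).1 p = sgn (m.testBit (ptIdx p)) (x.1 (f p))) :
    Mono g (tabOf f m) := by
  refine ⟨by simp [tabOf], fun i hi => ?_, fun x p => ?_⟩
  · rw [entry_tabOf f m hi]; exact ptIdx_lt _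
  · rw [entry_tabOf f m (ptIdx_lt p), h]
    simp only [ptOf_ptIdx]

theorem mono_one : Mono 1 oneTab := mono_tabOf fun x p => by simp [sgn]

theorem Mono.mul {g h : Co0} {A B : MTab} (hg : Mono g A) (hh : Mono h B) :
    Mono (g * h) (mulTab A B) := by
  have he : ∀ i < 24, entry (mulTab A B) i =
      ((entry B (entry A i).1).1, (entry A i).2 ^^ (entry B (entry A i).1).2) := fun i hi =>
    entry_map A _ (hg.len ▸ hi)
  refine ⟨by simp [mulTab, hg.len], fun i hi => ?_, fun x p => ?_⟩
  · rw [he i hi]; exact hh.lt _ (hg.lt i hi)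
  · have hj := hg.lt _ (ptIdx_lt p)
    rw [he _ (ptIdx_lt p), mul_smul, hg.act, hh.act, idx_ptOf _ hj, sgn_xor]

theorem mono_neg {g : Co0} {A : MTab} (hg : Mono g A) : Mono (g * negCo0) (negTab A) := by
  refine ⟨by simp [negTab, hg.len], fun i hi => ?_, fun x p => ?_⟩
  · rw [negTab, entry_map A _ (hg.len ▸ hi)]; exact hg.lt i hi
  · rw [negTab, entry_map A _ (hg.len ▸ ptIdx_lt p), mul_smul, hg.act, negCo0_smul]
    generalize (entry A (ptIdx p)).2 = b
    cases b <;> simp [sgn]

theorem Mono.unique {g h : Co0} {A : MTab} (hg : Mono g A) (hh : Mono h A) : g = h :=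
  Subtype.ext (Equiv.ext fun x => Subtype.ext (funext fun p => (hg.act x p).trans (hh.act x p).symm))

theorem Mono.table_eq {g : Co0} {A B : MTab} (hA : Mono g A) (hB : Mono g B) : A = B := by
  have hent : ∀ i < 24, entry A i = entry B i := by
    intro i hi
    have ha := hA.act (crossL (ptOf (entry A i).1)) (ptOf i)
    have hb := hB.act (crossL (ptOf (entry A i).1)) (ptOf i)
    rw [idx_ptOf i hi] at ha hb
    have e := ha.symm.trans hb
    have hab : ptOf (entry A i).1 = ptOf (entry B i).1 := by
      by_contra hne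
      revert e
      generalize (entry A i).2 = s
      generalize (entry B i).2 = t
      cases s <;> cases t <;> simp [sgn, crossL, Leech.cross, Ne.symm hne]
    have h1 : (entry A i).1 = (entry B i).1 := by
      rw [← idx_ptOf _ (hA.lt i hi), hab, idx_ptOf _ (hB.lt i hi)]
    refine Prod.ext h1 ?_
    rw [← hab] at e
    revert e
    generalize (entry A i).2 = s
    generalize (entry B i).2 = t
    cases s <;> cases t <;> simp [sgn, crossL, Leech.cross]
  refine List.ext_getElem (hA.len.trans hB.len.symm) fun i h1 h2 => ?_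
  have := hent i (hA.len ▸ h1)
  simpa [entry, List.getD_eq_getElem?_getD, h1, h2] using this

theorem Mono.eq_iff {g h : Co0} {A B : MTab} (hg : Mono g A) (hh : Mono h B) : g = h ↔ A = B :=
  ⟨fun e => (e ▸ hg : Mono h A).table_eq hh, fun e => (e ▸ hg : Mono g B).unique hh⟩

theorem Mono.proj_eq_iff {a b : Co1Invol.centT} {A B : MTab} (ha : Mono a A) (hb : Mono b B) :
    Co1Invol.proj a = Co1Invol.proj b ↔ eqTab A B = true := by
  rw [Co1Invol.proj_eq_iff, ha.eq_iff hb, ha.eq_iff (mono_neg hb), eqTab, Bool.or_eq_true,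
    beq_iff_eq, beq_iff_eq]

/-- The table of a step. -/
def stepTab (i : ℕ) : MTab :=
  if i < 192 then tabOf (node (i - 1)) 0 else tabOf id (Golay.enc (i - 192))

/-- The table of a word. -/
def wordTab : List ℕ → MTab
  | [] => oneTab
  | i :: w => mulTab (wordTab w) (stepTab i)

theorem mono_step {i : ℕ} (h0 : i ≠ 0) {g : Co0}
    (hg : ∀ x : leechLattice, (g • x).1 = step3 i x.1) : Mono g (stepTab i) := by
  unfold stepTab
  split_ifs with h
  · refine mono_tabOf fun x p => ?_
    rw [hg, step3, if_pos h, stepFun, if_neg h0]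
    simp [sgn]
  · refine mono_tabOf fun x p => ?_
    rw [hg, step3, if_neg h]
    simp only [flipMask, sgn, id_eq]

theorem exists_mono_word : ∀ w : List ℕ, 0 ∉ w → ∃ g : Co0, Mono g (wordTab w)
  | [], _ => ⟨1, mono_one⟩
  | i :: w, h => by
    simp only [List.mem_cons, not_or] at h
    obtain ⟨a, ha⟩ := exists_step i
    obtain ⟨b, hb⟩ := exists_mono_word w h.2
    exact ⟨b * a, hb.mul (mono_step (Ne.symm h.1) ha)⟩

theorem mono_invT : Mono invT (tabOf id 8241104) := by
  refine mono_tabOf fun x p => ?_
  rw [invT_smul, signSet_mask, flipOn_bitSet]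
  simp only [flipMask, sgn, id_eq]

/-- A monomial element with a table commuting with the involution lies in the centraliser. -/
theorem mono_mem_centT {g : Co0} {A : MTab} (hg : Mono g A)
    (h : mulTab A (tabOf id 8241104) = mulTab (tabOf id 8241104) A) : g ∈ Co1Invol.centT :=
  Co1Invol.mem_centT.mpr ((hg.mul mono_invT).eq_iff (mono_invT.mul hg) |>.mpr h)

end Cfsg.Agent.LargeOut
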